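import Cfsg.Agent.H84.SD.Index

/-!
# The two index equations without regularity

`c = |G : C(t)|` is odd, prime to the odd part of `Q + 1` and `≡ 3` modulo the odd divisors of
`Q - 1`.  Then only the linear shape, the `M₁₁` shape, and one value at `Q = -5` remain.
-/

set_option autoImplicit false
set_option linter.style.haveILetI false
set_option linter.unusedSectionVars false

namespace Cfsg.Agent.H84.SD

/-- A rational root of a monic integral quadratic: the denominator divides. -/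
theorem dvd_of_quadratic {s a b k : ℤ} (hs : s ≠ 0) (h : a ^ 2 + b * a * s + k * s ^ 2 = 0) :
    s ∣ a := by
  obtain ⟨d, a', s', hd, hcop, rfl, rfl⟩ :=
    Int.exists_gcd_one' (Int.gcd_pos_of_ne_zero_right a hs)
  have h' : a' ^ 2 + b * a' * s' + k * s' ^ 2 = 0 := by
    apply mul_left_cancel₀ (pow_ne_zero 2 (show (d : ℤ) ≠ 0 by exact_mod_cast hd.ne'))
    linear_combination h
  have h1 : s' ∣ a' ^ 2 := ⟨-(b * a' + k * s'), by linear_combination h'⟩
  have h2 : s' ∣ 1 := ((Int.isCoprime_iff_gcd_eq_one.2 hcop).symm.pow_right).dvd_of_dvd_mul_right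
    (by simpa using h1)
  exact mul_dvd_mul_right (h2.trans (one_dvd _)) _

/-- The index written through the first row. -/
theorem index_h {Q E c : ℤ} (hQ : Q ≠ 0) (hQ1 : Q + 1 ≠ 0) (hE : E ≠ 0) (hE1 : E ≠ -1)
    (he : c * (E + Q + 1) ^ 2 = Q * (Q + 1) ^ 3 * (E * (E + 1))) :
    ∃ h : ℤ, h ∣ Q * (Q + 1) ^ 2 ∧ c = (Q * (Q + 1) - h) * ((Q + 1) ^ 2 - h) := by
  have hs : E + Q + 1 ≠ 0 := fun h => by
    rw [h] at he
    simp [hQ, hQ1, hE] at he
    omega
  obtain ⟨h, hh⟩ := dvd_of_quadratic (a := Q * (Q + 1) ^ 2) (b := -((2 * Q + 1) * (Q + 1)))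
    (k := Q * (Q + 1) ^ 3 - c) hs (by linear_combination (-1 : ℤ) * he)
  refine ⟨h, ⟨E + Q + 1, by rw [hh]; ring⟩, ?_⟩
  apply mul_left_cancel₀ (pow_ne_zero 2 hs)
  linear_combination he + (((2 * Q + 1) * (Q + 1)) * (E + Q + 1) -
    Q * (Q + 1) ^ 2 - h * (E + Q + 1)) * (-hh)

/-- The index written through the third row. -/
theorem index_g {Q Y c : ℤ} (hQ : Q ≠ 0) (hQ1 : Q + 1 ≠ 0) (hQ2 : Q - 1 ≠ 0) (hY : Y ≠ 0)
    (hY1 : Y ≠ -1) (he : c * (Y - Q + 1) ^ 2 = Q * (Q + 1) ^ 2 * (Q - 1) * (Y * (Y + 1))) :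
    ∃ g : ℤ, g ∣ Q * (Q + 1) * (Q - 1) ∧ c = (Q * (Q + 1) + g) * (Q ^ 2 - 1 + g) := by
  have hs : Y - Q + 1 ≠ 0 := fun h => by
    rw [h] at he
    simp [hQ, hQ1, hQ2, hY] at he
    omega
  obtain ⟨g, hg⟩ := dvd_of_quadratic (a := Q * (Q + 1) * (Q - 1)) (b := (2 * Q - 1) * (Q + 1))
    (k := Q * (Q + 1) ^ 2 * (Q - 1) - c) hs (by linear_combination (-1 : ℤ) * he)
  refine ⟨g, ⟨Y - Q + 1, by rw [hg]; ring⟩, ?_⟩
  apply mul_left_cancel₀ (pow_ne_zero 2 hs)
  linear_combination he + (((2 * Q - 1) * (Q + 1)) * (Y - Q + 1) +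
    Q * (Q + 1) * (Q - 1) + g * (Y - Q + 1)) * hg

/-- Natural number form of a common divisor argument. -/
theorem isCoprime_of_prime {x y : ℤ} (hx : Odd x) (h : ∀ r : ℕ, r.Prime → r ≠ 2 → (r : ℤ) ∣ x →
    ¬ (r : ℤ) ∣ y) : IsCoprime x y := by
  rw [Int.isCoprime_iff_gcd_eq_one]
  by_contra hne
  obtain ⟨r, hr, hd⟩ := Nat.exists_prime_and_dvd hne
  have hd1 : (r : ℤ) ∣ x := (Int.natCast_dvd_natCast.2 hd).trans (Int.gcd_dvd_left x y)
  refine h r hr (fun h2 => ?_) hd1 ((Int.natCast_dvd_natCast.2 hd).trans (Int.gcd_dvd_right x y))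
  subst h2
  exact Int.not_even_iff_odd.2 hx (even_iff_two_dvd.2 hd1)

/-- The possible indices. -/
theorem index_cases {p n : ℕ} [hp : Fact p.Prime] (hp2 : p ≠ 2) (hn : 1 ≤ n) {Q E Y c : ℤ}
    (hQp : Q.natAbs = p ^ n) (hQ4 : Q % 4 = 3) (hE : E ≠ 0) (hE1 : E ≠ -1) (hY : Y ≠ 0)
    (hY1 : Y ≠ -1) (he : c * (E + Q + 1) ^ 2 = Q * (Q + 1) ^ 3 * (E * (E + 1)))
    (hy : c * (Y - Q + 1) ^ 2 = Q * (Q + 1) ^ 2 * (Q - 1) * (Y * (Y + 1)))
    (hodd : Odd c) (hm : ∀ r : ℕ, r.Prime → r ≠ 2 → (r : ℤ) ∣ Q + 1 → ¬ (r : ℤ) ∣ c)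
    (h3 : ∀ d : ℤ, Odd d → d ∣ Q - 1 → d ∣ c - 3) :
    c = Q ^ 2 * (Q ^ 2 + Q + 1) ∨ c = Q * (Q + 2) * (Q ^ 2 + Q - 1) ∨ (Q = -5 ∧ c = 357) := by
  have hp3 : 3 ≤ p := lt_of_le_of_ne hp.out.two_le (Ne.symm hp2)
  have hQ3 : 3 ≤ Q.natAbs := by
    have := Nat.le_self_pow (show n ≠ 0 by omega) p
    omega
  have hQ0 : Q ≠ 0 := by omega
  have hQ10 : Q + 1 ≠ 0 := by omega
  have hQ20 : Q - 1 ≠ 0 := by omega
  obtain ⟨h, hh, hch⟩ := index_h hQ0 hQ10 hE hE1 he
  obtain ⟨g, hg, hcg⟩ := index_g hQ0 hQ10 hQ20 hY hY1 hy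
  have hev : Even (Q + 1) := by rw [Int.even_iff]; omega
  have hho : Odd h := by
    by_contra hne
    rw [Int.not_odd_iff_even] at hne
    refine Int.not_even_iff_odd.2 hodd ?_
    rw [hch]
    exact ((hev.mul_left Q).sub hne).mul_right _
  have hgo : Odd g := by
    by_contra hne
    rw [Int.not_odd_iff_even] at hne
    refine Int.not_even_iff_odd.2 hodd ?_
    rw [hcg]
    exact ((hev.mul_left Q).add hne).mul_right _
  -- `h` and `g` are prime to `Q + 1`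
  have hcop_h : IsCoprime h (Q + 1) := isCoprime_of_prime hho fun r hr hr2 hd1 hd2 => by
    refine hm r hr hr2 hd2 ?_
    rw [hch]
    exact Dvd.dvd.mul_right ((hd2.mul_left Q).sub hd1) _
  have hcop_g : IsCoprime g (Q + 1) := isCoprime_of_prime hgo fun r hr hr2 hd1 hd2 => by
    refine hm r hr hr2 hd2 ?_
    rw [hcg]
    exact Dvd.dvd.mul_right ((hd2.mul_left Q).add hd1) _
  have hhQ : h ∣ Q := (hcop_h.pow_right).dvd_of_dvd_mul_right hh
  have hgQ : g ∣ 3 * Q := by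
    have h1 : g ∣ Q * (Q - 1) := hcop_g.dvd_of_dvd_mul_right
      (by rw [show Q * (Q - 1) * (Q + 1) = Q * (Q + 1) * (Q - 1) by ring]; exact hg)
    set d : ℤ := (Int.gcd g (Q - 1) : ℤ) with hd
    have hd1 : d ∣ g := Int.gcd_dvd_left _ _
    have hd2 : d ∣ Q - 1 := Int.gcd_dvd_right _ _
    have hdodd : Odd d := by
      by_contra hne
      rw [Int.not_odd_iff_even, even_iff_two_dvd] at hne
      exact Int.not_even_iff_odd.2 hgo (even_iff_two_dvd.2 (hne.trans hd1))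
    have hdc : d ∣ c := by
      rw [hcg]
      refine Dvd.dvd.mul_left ?_ _
      rw [show Q ^ 2 - 1 + g = (Q - 1) * (Q + 1) + g by ring]
      exact (hd2.mul_right _).add hd1
    have hd3 : d ∣ 3 := by
      have := hdc.sub (h3 d hdodd hd2)
      rwa [show c - (c - 3) = 3 by ring] at this
    have h2 : g ∣ Q * d := by
      rw [hd, Int.gcd_eq_gcd_ab g (Q - 1), mul_add, ← mul_assoc, ← mul_assoc]
      exact ((dvd_mul_left g Q).mul_right _).add (h1.mul_right _)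
    exact h2.trans (mul_comm 3 Q ▸ mul_dvd_mul_left Q hd3)
  have hhb : |h| ≤ |Q| := Int.le_of_dvd (abs_pos.2 hQ0) ((abs_dvd_abs _ _).2 hhQ)
  have hgb : |g| ≤ 3 * |Q| := by
    have := Int.le_of_dvd (abs_pos.2 (by omega : 3 * Q ≠ 0)) ((abs_dvd_abs _ _).2 hgQ)
    rwa [abs_mul, abs_of_pos (by norm_num : (0 : ℤ) < 3)] at this
  have hprod : (g + h - (Q + 1)) * (h - g - 2 * Q * (Q + 1)) = 0 := by
    linear_combination hcg - hch
  rcases mul_eq_zero.1 hprod with hs | hs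
  swap
  · exfalso
    have h4 : 4 ≤ |Q + 1| := by
      rw [Int.abs_eq_natAbs]
      have h4 : ((4 : ℕ) : ℤ) ∣ Q + 1 := by omega
      have := Nat.le_of_dvd (Int.natAbs_pos.2 hQ10) (Int.natCast_dvd.1 h4)
      omega
    have h5 : |h - g| = 2 * |Q| * |Q + 1| := by
      rw [show h - g = 2 * Q * (Q + 1) by linarith, abs_mul, abs_mul,
        abs_of_pos (by norm_num : (0 : ℤ) < 2)]
    have h6 := abs_sub h g
    have h7 : 0 < |Q| := abs_pos.2 hQ0
    nlinarith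
  · have hge : g = Q + 1 - h := by linarith
    subst hge
    have hQdvd : Q ∣ (p : ℤ) ^ n := by
      rw [show (p : ℤ) ^ n = ((Q.natAbs : ℕ) : ℤ) by rw [hQp]; push_cast; rfl]
      exact Int.dvd_natAbs.2 dvd_rfl
    have hpQ : (p : ℤ) ∣ Q := by
      refine (dvd_pow_self _ (show n ≠ 0 by omega)).trans ?_
      rw [show (p : ℤ) ^ n = ((Q.natAbs : ℕ) : ℤ) by rw [hQp]; push_cast; rfl]
      exact Int.natAbs_dvd.2 dvd_rfl
    have small : ∀ {x : ℤ}, x ∣ (p : ℤ) ^ n → (p : ℤ) ∣ x ∨ x = 1 ∨ x = -1 := by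
      intro x hx
      rw [← Int.natAbs_dvd_natAbs, Int.natAbs_pow, Int.natAbs_natCast] at hx
      obtain ⟨i, -, hi⟩ := (Nat.dvd_prime_pow hp.out).1 hx
      rcases Nat.eq_zero_or_pos i with rfl | hpos
      · rw [pow_zero] at hi
        right
        rcases Int.natAbs_eq x with hx' | hx' <;> rw [hi] at hx' <;> omega
      · left
        rw [Int.natCast_dvd, hi]
        exact dvd_pow_self p (by omega)
    rcases small (hhQ.trans hQdvd) with hph | rfl | rfl
    · -- then `g` is prime to `p`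
      have hnp : ¬ (p : ℤ) ∣ Q + 1 - h := fun hd => by
        have h1 := (hd.add hph).sub hpQ
        rw [show Q + 1 - h + h - Q = 1 by ring] at h1
        exact hp.out.one_lt.ne' (Nat.dvd_one.1 (by exact_mod_cast h1))
      have hg3 : Q + 1 - h ∣ 3 := by
        refine (IsCoprime.pow_right (n := n) ?_).dvd_of_dvd_mul_right
          (hgQ.trans (mul_dvd_mul_left 3 hQdvd))
        exact ((Nat.prime_iff_prime_int.1 hp.out).coprime_iff_not_dvd.2 hnp).symm
      have hg3' : |Q + 1 - h| ≤ 3 := Int.le_of_dvd (by norm_num) (by rwa [abs_dvd])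
      obtain ⟨j, hj⟩ := hhQ
      have hg4 := abs_le.1 hg3'
      obtain ⟨h', hk⟩ : ∃ k : ℤ, h = Q + k := ⟨h - Q, by ring⟩
      subst hk
      rw [show Q + 1 - (Q + h') = 1 - h' by ring] at hg3 hg4
      have hh' : h' = 0 ∨ h' = 2 ∨ h' = -2 ∨ h' = 4 := by
        have key : ∀ x ∈ Finset.Icc (-3 : ℤ) 3, x ∣ 3 → x = 1 ∨ x = -1 ∨ x = 3 ∨ x = -3 := by
          decide
        have := key _ (Finset.mem_Icc.2 hg4) hg3
        omega
      rcases hh' with rfl | h' | h' | h'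
      · left; rw [hch]; ring
      all_goals
        subst h'
        clear hg3 hg hgQ hh
        first
        | (have hk2 : Q + 2 ∣ 2 := ⟨1 - j, by linear_combination (-1 : ℤ) * hj⟩
           have := Int.le_of_dvd (by norm_num) ((abs_dvd _ _).2 hk2)
           have := abs_le.1 this
           exfalso; omega)
        | (have hk2 : Q + -2 ∣ 2 := ⟨j - 1, by linear_combination hj⟩
           have := abs_le.1 (Int.le_of_dvd (by norm_num) ((abs_dvd _ _).2 hk2))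
           have hQ : Q = 3 := by omega
           subst hQ; right; left; rw [hch]; norm_num)
        | (have hk2 : Q + 4 ∣ 4 := ⟨1 - j, by linear_combination (-1 : ℤ) * hj⟩
           have := abs_le.1 (Int.le_of_dvd (by norm_num) ((abs_dvd _ _).2 hk2))
           have hQ : Q = -5 := by omega
           subst hQ; right; right; exact ⟨rfl, by rw [hch]; norm_num⟩)
    · right; left; rw [hch]; ring
    · right; right
      have h6 : Q + 2 ∣ 6 := by
        obtain ⟨k, hk⟩ := hgQ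
        exact ⟨3 - k, by linear_combination (-1 : ℤ) * hk⟩
      have h6' := abs_le.1 (Int.le_of_dvd (by norm_num) ((abs_dvd _ _).2 h6))
      have hQ : Q = -5 := by
        have key : ∀ x ∈ Finset.Icc (-8 : ℤ) 4, x + 2 ∣ 6 → x % 4 = 3 → x = -5 ∨ x = -1 := by
          decide
        have := key Q (Finset.mem_Icc.2 ⟨by omega, by omega⟩) h6 hQ4
        omega
      subst hQ
      exact ⟨rfl, by rw [hch]; norm_num⟩

open Subgroup in
/-- The possible indices of an involution centraliser with the principal-block functions. -/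
theorem centralizer_index_cases {G : Type*} [Group G] [Fintype G] {t : G}
    [Fintype (centralizer ({t} : Set G))] {J : Type*} [Fintype J] {Q : ℤ} {P P₃ : ℚ}
    [IsSimpleGroup G] (hG : ¬ IsMulCommutative G) (ht : orderOf t = 2)
    (hinv : ∀ a : centralizer ({t} : Set G), orderOf a = 2 → IsConj t (a : G))
    (hJ : 3 ≤ Fintype.card J) (F : Funs t J Q P P₃) {T : ℕ} (hT : T ≠ 0)
    {p n : ℕ} [Fact p.Prime] (hp2 : p ≠ 2) (hn : 1 ≤ n) (hQp : Q.natAbs = p ^ n) (hQ4 : Q % 4 = 3)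
    (hCT : (Nat.card (centralizer ({t} : Set G)) : ℤ) = T * Q * (Q + 1))
    (hP : P * ((T : ℚ) ^ 2 * Q) =
      (Nat.card (centralizer ({t} : Set G)) : ℚ) * ((Q : ℚ) + 1))
    (hP₃ : P₃ * (T : ℚ) ^ 2 = 2 * (Nat.card (centralizer ({t} : Set G)) : ℚ))
    (hodd : Odd (centralizer ({t} : Set G)).index)
    (hm : ∀ r : ℕ, r.Prime → r ≠ 2 → (r : ℤ) ∣ Q + 1 → ¬ r ∣ (centralizer ({t} : Set G)).index)
    (h3 : ∀ d : ℤ, Odd d → d ∣ Q - 1 → d ∣ ((centralizer ({t} : Set G)).index : ℤ) - 3) :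
    ((centralizer ({t} : Set G)).index : ℤ) = Q ^ 2 * (Q ^ 2 + Q + 1) ∨
      ((centralizer ({t} : Set G)).index : ℤ) = Q * (Q + 2) * (Q ^ 2 + Q - 1) ∨
      (Q = -5 ∧ (centralizer ({t} : Set G)).index = 357) := by
  obtain ⟨E, V, Y, hE, hE1, hY, hY1, -, -, he, hy⟩ := index_formula hG ht hinv hJ F hT
    (by intro h; rw [h] at hQ4; norm_num at hQ4) hCT hP hP₃
  rcases index_cases hp2 hn hQp hQ4 hE hE1 hY hY1 he hy ((Int.odd_coe_nat _).2 hodd)
    (fun r hr hr2 hd h => hm r hr hr2 hd (Int.natCast_dvd_natCast.1 h)) h3 with h | h | ⟨h, h'⟩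
  · exact Or.inl h
  · exact Or.inr (Or.inl h)
  · exact Or.inr (Or.inr ⟨h, by exact_mod_cast h'⟩)

end Cfsg.Agent.H84.SD
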