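import Mathlib

/-!
# The rows of Brauer's principal-block functions, semidihedral case

The integer vectors of the induced functions `a₁ = 1 + St·det - R`, `a₂ = det + St - R` and
`a₃ⱼ = 1 + det + πⱼ - R` on the characters of `G`.
-/

set_option autoImplicit false

namespace Cfsg.Agent.H84.SD

open Finset

variable {X : Type*} [Fintype X] {J : Type*} [Fintype J]

/-- The integer data. -/
structure RowData (X J : Type*) [Fintype X] [Fintype J] where
  o : X
  d : X → ℤ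
  A₁ : X → ℤ
  A₂ : X → ℤ
  B : J → X → ℤ
  d_one : d o = 1
  d_pos : ∀ x, 0 < d x
  d_ne : ∀ x, x ≠ o → d x ≠ 1
  g11 : ∑ x, A₁ x * A₁ x = 3
  g22 : ∑ x, A₂ x * A₂ x = 3
  g12 : ∑ x, A₁ x * A₂ x = 1
  g13 : ∀ j, ∑ x, A₁ x * B j x = 2
  g23 : ∀ j, ∑ x, A₂ x * B j x = 2
  g33 : ∀ j, ∑ x, B j x * B j x = 4
  g34 : ∀ j k, j ≠ k → ∑ x, B j x * B k x = 3
  one1 : A₁ o = 1
  one2 : A₂ o = 0
  one3 : ∀ j, B j o = 1
  deg1 : ∑ x, A₁ x * d x = 0
  deg2 : ∑ x, A₂ x * d x = 0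
  deg3 : ∀ j, ∑ x, B j x * d x = 0

/-- A vector of norm three has three entries `±1`. -/
theorem three_entries [DecidableEq X] {f : X → ℤ} (h : ∑ x, f x * f x = 3) :
    ∃ s : Finset X, s.card = 3 ∧ (∀ x ∈ s, f x = 1 ∨ f x = -1) ∧ ∀ x, x ∉ s → f x = 0 := by
  classical
  have hle : ∀ x, f x * f x ≤ 3 := fun x => h ▸ Finset.single_le_sum
    (f := fun y => f y * f y) (fun y _ => mul_self_nonneg (f y)) (Finset.mem_univ x)
  have hval : ∀ x, f x = 0 ∨ f x = 1 ∨ f x = -1 := fun x => by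
    have := hle x
    have h1 : f x ≤ 1 := by nlinarith
    have h2 : -1 ≤ f x := by nlinarith
    omega
  refine ⟨Finset.univ.filter fun x => f x ≠ 0, ?_, fun x hx => ?_, fun x hx => by simpa using hx⟩
  · have : ∀ x, f x * f x = if f x ≠ 0 then 1 else 0 := fun x => by
      rcases hval x with h | h | h <;> simp [h]
    rw [Finset.sum_congr rfl fun x _ => this x, Finset.sum_boole] at h
    exact_mod_cast h
  · rcases hval x with h | h | h
    · simp [h] at hx
    · exact Or.inl h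
    · exact Or.inr h

/-- Sums against a vector supported on three points. -/
theorem sum_three [DecidableEq X] {f : X → ℤ} {a b c : X} (hab : a ≠ b) (hac : a ≠ c) (hbc : b ≠ c)
    (hz : ∀ x, x ≠ a → x ≠ b → x ≠ c → f x = 0) {R : Type*} [CommRing R] (g : X → R) :
    ∑ x, (f x : R) * g x = (f a : R) * g a + (f b : R) * g b + (f c : R) * g c := by
  rw [← Finset.sum_subset (Finset.subset_univ ({a, b, c} : Finset X))
    (fun x _ hx => by
      simp only [Finset.mem_insert, Finset.mem_singleton, not_or] at hx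
      rw [hz x hx.1 hx.2.1 hx.2.2, Int.cast_zero, zero_mul]),
    Finset.sum_insert (by simp [hab, hac]), Finset.sum_insert (by simp [hbc]),
    Finset.sum_singleton, add_assoc]

namespace RowData

variable (D : RowData X J)

/-- The value at the involution. -/
def val (Q : ℤ) (s : J → ℤ) (x : X) : ℤ :=
  Q * (D.A₁ x + D.A₂ x) + (Q - 1) * ∑ j, s j * D.B j x

/-- The shape: `A₁ = 1 + u + e`, `A₂ = e + v + w`, every `B j` contains `1, e, v` and avoids `u, w`. -/
theorem shape (hJ : 3 ≤ Fintype.card J) :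
    ∃ u e v w : X, u ≠ D.o ∧ e ≠ D.o ∧ v ≠ D.o ∧ w ≠ D.o ∧ u ≠ e ∧ e ≠ v ∧ e ≠ w ∧ v ≠ w ∧
      (D.A₁ u = 1 ∨ D.A₁ u = -1) ∧ (D.A₁ e = 1 ∨ D.A₁ e = -1) ∧ D.A₂ e = D.A₁ e ∧
      (D.A₂ v = 1 ∨ D.A₂ v = -1) ∧ (D.A₂ w = 1 ∨ D.A₂ w = -1) ∧ D.A₁ v = 0 ∧ D.A₁ w = 0 ∧
      D.A₂ u = 0 ∧ (∀ x, x ≠ D.o → x ≠ u → x ≠ e → D.A₁ x = 0) ∧
      (∀ x, x ≠ e → x ≠ v → x ≠ w → D.A₂ x = 0) ∧
      ∀ j, D.B j u = 0 ∧ D.B j e = D.A₁ e ∧ D.B j v = D.A₂ v ∧ D.B j w = 0 := by
  classical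
  obtain ⟨s₁, hc₁, hv₁, hz₁⟩ := three_entries D.g11
  obtain ⟨s₂, hc₂, hv₂, hz₂⟩ := three_entries D.g22
  have ho₁ : D.o ∈ s₁ := by
    by_contra h
    have := hz₁ _ h
    rw [D.one1] at this
    exact one_ne_zero this
  have ho₂ : D.o ∉ s₂ := fun h => by
    rcases hv₂ _ h with h' | h' <;> rw [D.one2] at h' <;> norm_num at h'
  obtain ⟨u₀, e₀, hne₀, hs₁⟩ := Finset.card_eq_two.1
    (show (s₁.erase D.o).card = 2 by rw [Finset.card_erase_of_mem ho₁, hc₁])
  have hu₀ : u₀ ≠ D.o ∧ u₀ ∈ s₁ := by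
    rw [← Finset.mem_erase, hs₁]; simp
  have he₀ : e₀ ≠ D.o ∧ e₀ ∈ s₁ := by
    rw [← Finset.mem_erase, hs₁]; simp
  have hz₁' : ∀ x, x ≠ D.o → x ≠ u₀ → x ≠ e₀ → D.A₁ x = 0 := fun x h1 h2 h3 => hz₁ x fun hx => by
    have : x ∈ s₁.erase D.o := Finset.mem_erase.2 ⟨h1, hx⟩
    rw [hs₁] at this
    simp [h2, h3] at this
  -- name `e` the element common with `A₂`
  obtain ⟨u, e, hue, hu, he, hz1, hcom, hAu⟩ : ∃ u e, u ≠ e ∧ (u ≠ D.o ∧ u ∈ s₁) ∧
      (e ≠ D.o ∧ e ∈ s₁) ∧ (∀ x, x ≠ D.o → x ≠ u → x ≠ e → D.A₁ x = 0) ∧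
      D.A₂ e = D.A₁ e ∧ D.A₂ u = 0 := by
    have h := D.g12
    have h' := sum_three (f := D.A₁) (Ne.symm hu₀.1) (Ne.symm he₀.1) hne₀ hz₁' (R := ℤ) D.A₂
    simp only [Int.cast_id] at h'
    rw [h', D.one2, mul_zero, zero_add] at h
    have hb : ∀ x, D.A₂ x = 0 ∨ D.A₂ x = 1 ∨ D.A₂ x = -1 := fun x => by
      by_cases hx : x ∈ s₂
      · exact Or.inr (hv₂ x hx)
      · exact Or.inl (hz₂ x hx)
    rcases hb u₀ with hu2 | hu2
    · refine ⟨u₀, e₀, hne₀, hu₀, he₀, hz₁', ?_, hu2⟩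
      rw [hu2, mul_zero, zero_add] at h
      rcases hv₁ _ he₀.2 with h1 | h1 <;> rw [h1] at h ⊢ <;> omega
    · have he2 : D.A₂ e₀ = 0 := by
        rcases hv₁ _ he₀.2 with h1 | h1 <;> rcases hv₁ _ hu₀.2 with h3 | h3 <;>
          rcases hb e₀ with h4 | h4 | h4 <;> rcases hu2 with h5 | h5 <;>
            simp [h1, h3, h4, h5] at h <;> exact h4
      refine ⟨e₀, u₀, hne₀.symm, he₀, hu₀, fun x a b c => hz₁' x a c b, ?_, he2⟩
      rw [he2, mul_zero, add_zero] at h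
      rcases hv₁ _ hu₀.2 with h1 | h1 <;> rw [h1] at h ⊢ <;> omega
  have he2 : e ∈ s₂ := by
    by_contra h
    have := hz₂ _ h
    rw [hcom] at this
    rcases hv₁ _ he.2 with h1 | h1 <;> omega
  obtain ⟨v₀, w₀, hvw, hs₂⟩ := Finset.card_eq_two.1
    (show (s₂.erase e).card = 2 by rw [Finset.card_erase_of_mem he2, hc₂])
  have hv₀ : v₀ ≠ e ∧ v₀ ∈ s₂ := by rw [← Finset.mem_erase, hs₂]; simp
  have hw₀ : w₀ ≠ e ∧ w₀ ∈ s₂ := by rw [← Finset.mem_erase, hs₂]; simp
  have hz2 : ∀ x, x ≠ e → x ≠ v₀ → x ≠ w₀ → D.A₂ x = 0 := fun x h1 h2 h3 => hz₂ x fun hx => by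
    have : x ∈ s₂.erase e := Finset.mem_erase.2 ⟨h1, hx⟩
    rw [hs₂] at this
    simp [h2, h3] at this
  have hout : ∀ x ∈ s₂, x ≠ e → x ≠ D.o ∧ x ≠ u ∧ D.A₁ x = 0 := fun x hx hxe => by
    have h1 : x ≠ D.o := fun h => ho₂ (h ▸ hx)
    have h2 : x ≠ u := fun h => by
      rcases hv₂ _ hx with h' | h' <;> rw [h, hAu] at h' <;> norm_num at h'
    exact ⟨h1, h2, hz1 x h1 h2 hxe⟩
  -- the entries of every `B j`
  have key : ∀ j, D.B j u = 0 ∧ D.B j e = D.A₁ e ∧
      ((D.B j v₀ = D.A₂ v₀ ∧ D.B j w₀ = 0) ∨ (D.B j v₀ = 0 ∧ D.B j w₀ = D.A₂ w₀)) := by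
    intro j
    have hsq : ∀ s : Finset X, ∑ x ∈ s, D.B j x * D.B j x ≤ 4 := fun s => D.g33 j ▸
      Finset.sum_le_univ_sum_of_nonneg (fun x => mul_self_nonneg (D.B j x))
    have hb : ∀ x, x ≠ D.o → -1 ≤ D.B j x ∧ D.B j x ≤ 1 := fun x hx => by
      have := hsq {D.o, x}
      rw [Finset.sum_pair (Ne.symm hx), D.one3] at this
      constructor <;> nlinarith
    have h1 := D.g13 j
    have h1' := sum_three (f := D.A₁) (Ne.symm hu.1) (Ne.symm he.1) hue hz1 (R := ℤ) (D.B j)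
    simp only [Int.cast_id] at h1'
    rw [h1', D.one1, D.one3] at h1
    have h2 := D.g23 j
    have h2' := sum_three (f := D.A₂) (Ne.symm hv₀.1) (Ne.symm hw₀.1) hvw hz2 (R := ℤ) (D.B j)
    simp only [Int.cast_id] at h2'
    rw [h2', hcom] at h2
    have bu := hb u hu.1
    have be := hb e he.1
    have bv := hb v₀ (hout _ hv₀.2 hv₀.1).1
    have bw := hb w₀ (hout _ hw₀.2 hw₀.1).1
    -- the case `B j u = ±1` contradicts the degree
    have hne : D.A₁ e * D.B j e ≠ 0 := by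
      intro h0
      have hu' : D.A₁ u * D.B j u = 1 := by linarith
      have hv' : D.A₂ v₀ * D.B j v₀ = 1 ∧ D.A₂ w₀ * D.B j w₀ = 1 := by
        rcases hv₂ _ hv₀.2 with a | a <;> rcases hv₂ _ hw₀.2 with b | b <;> rw [a, b] at h2 ⊢ <;>
          constructor <;> omega
      have hBu : D.B j u = D.A₁ u := by
        rcases hv₁ _ hu.2 with a | a <;> rw [a] at hu' ⊢ <;> omega
      have hBv : D.B j v₀ = D.A₂ v₀ ∧ D.B j w₀ = D.A₂ w₀ := by
        rcases hv₂ _ hv₀.2 with a | a <;> rcases hv₂ _ hw₀.2 with b | b <;> rw [a, b] at hv' ⊢ <;>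
          constructor <;> omega
      have hsup : ∀ x, x ∉ ({D.o, u, v₀, w₀} : Finset X) → D.B j x = 0 := by
        intro x hx
        have hs := hsq (insert x ({D.o, u, v₀, w₀} : Finset X))
        rw [Finset.sum_insert hx] at hs
        obtain ⟨ov, uv, -⟩ := hout _ hv₀.2 hv₀.1
        obtain ⟨ow, uw, -⟩ := hout _ hw₀.2 hw₀.1
        rw [Finset.sum_insert (by simp [Ne.symm hu.1, Ne.symm ov, Ne.symm ow]),
          Finset.sum_insert (by simp [Ne.symm uv, Ne.symm uw]), Finset.sum_pair hvw, D.one3, hBu,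
          hBv.1, hBv.2] at hs
        rcases hv₁ _ hu.2 with a | a <;> rcases hv₂ _ hv₀.2 with b | b <;>
          rcases hv₂ _ hw₀.2 with c | c <;> rw [a, b, c] at hs <;> nlinarith
      have hd := D.deg3 j
      obtain ⟨ov, uv, -⟩ := hout _ hv₀.2 hv₀.1
      obtain ⟨ow, uw, -⟩ := hout _ hw₀.2 hw₀.1
      rw [← Finset.sum_subset (Finset.subset_univ ({D.o, u, v₀, w₀} : Finset X))
        (fun x _ hx => by rw [hsup x hx, zero_mul]),
        Finset.sum_insert (by simp [Ne.symm hu.1, Ne.symm ov, Ne.symm ow]),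
        Finset.sum_insert (by simp [Ne.symm uv, Ne.symm uw]), Finset.sum_pair hvw, D.one3, hBu,
        hBv.1, hBv.2, D.d_one] at hd
      have hd1 := D.deg1
      have hd1' := sum_three (f := D.A₁) (Ne.symm hu.1) (Ne.symm he.1) hue hz1 (R := ℤ) D.d
      simp only [Int.cast_id] at hd1'
      rw [hd1', D.one1, D.d_one] at hd1
      have hd2 := D.deg2
      have hd2' := sum_three (f := D.A₂) (Ne.symm hv₀.1) (Ne.symm hw₀.1) hvw hz2 (R := ℤ) D.d
      simp only [Int.cast_id] at hd2'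
      rw [hd2', hcom] at hd2
      have : D.A₁ e * D.d e = 0 := by linarith
      rcases mul_eq_zero.1 this with a | a
      · rcases hv₁ _ he.2 with b | b <;> omega
      · exact (D.d_pos e).ne' a
    have hBe : D.B j e = D.A₁ e ∧ D.B j u = 0 := by
      rcases hv₁ _ he.2 with a | a <;> rcases hv₁ _ hu.2 with b | b <;>
        rw [a] at hne h1 ⊢ <;> rw [b] at h1 <;> constructor <;> omega
    refine ⟨hBe.2, hBe.1, ?_⟩
    rw [hBe.1] at h2
    rcases hv₁ _ he.2 with c | c <;> rcases hv₂ _ hv₀.2 with a | a <;>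
      rcases hv₂ _ hw₀.2 with b | b <;> rw [c, a, b] at h2 <;> rw [a, b] <;> omega
  -- all rows contain the same one of `v₀, w₀`
  have hsame : (∀ j, D.B j v₀ = D.A₂ v₀ ∧ D.B j w₀ = 0) ∨
      (∀ j, D.B j v₀ = 0 ∧ D.B j w₀ = D.A₂ w₀) := by
    by_contra hcon
    rw [not_or] at hcon
    obtain ⟨⟨k, hk⟩, ⟨j, hj⟩⟩ := And.intro (not_forall.1 hcon.1) (not_forall.1 hcon.2)
    have hk' := (key k).2.2.resolve_left hk
    have hj' := (key j).2.2.resolve_right hj
    have hjk : j ≠ k := fun h => hj (h ▸ hk')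
    -- the fourth entry of each row
    have hfour : ∀ i, ∃ x, x ≠ D.o ∧ x ≠ u ∧ x ≠ e ∧ x ≠ v₀ ∧ x ≠ w₀ ∧
        ∀ y, y ≠ D.o → y ≠ e → y ≠ v₀ → y ≠ w₀ → y ≠ x → D.B i y = 0 := by
      intro i
      obtain ⟨hiu, hie, hivw⟩ := key i
      obtain ⟨ov, uv, -⟩ := hout _ hv₀.2 hv₀.1
      obtain ⟨ow, uw, -⟩ := hout _ hw₀.2 hw₀.1
      set S : Finset X := {D.o, e, v₀, w₀} with hS
      have hS3 : ∑ x ∈ S, D.B i x * D.B i x = 3 := by
        rw [hS, Finset.sum_insert (by simp [Ne.symm he.1, Ne.symm ov, Ne.symm ow]),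
          Finset.sum_insert (by simp [Ne.symm hv₀.1, Ne.symm hw₀.1]), Finset.sum_pair hvw, D.one3,
          hie]
        rcases hivw with ⟨a, b⟩ | ⟨a, b⟩ <;> rw [a, b] <;>
          rcases hv₁ _ he.2 with c | c <;> rcases hv₂ _ hv₀.2 with d | d <;>
            rcases hv₂ _ hw₀.2 with f | f <;> simp [c, d, f]
      have hrest := D.g33 i
      rw [← Finset.sum_add_sum_compl S, hS3] at hrest
      obtain ⟨x, hx, hx0⟩ := Finset.exists_ne_zero_of_sum_ne_zero
        (show ∑ x ∈ Sᶜ, D.B i x * D.B i x ≠ 0 by omega)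
      simp only [hS, Finset.mem_compl, Finset.mem_insert, Finset.mem_singleton, not_or] at hx
      refine ⟨x, hx.1, fun h => hx0 (by rw [h, hiu, mul_zero]), hx.2.1, hx.2.2.1, hx.2.2.2,
        fun y h1 h2 h3 h4 h5 => ?_⟩
      have h6 : D.B i x * D.B i x + D.B i y * D.B i y ≤ 1 := by
        rw [← Finset.sum_pair (f := fun z => D.B i z * D.B i z) (Ne.symm h5)]
        calc ∑ z ∈ ({x, y} : Finset X), D.B i z * D.B i z ≤ ∑ z ∈ Sᶜ, D.B i z * D.B i z :=
              Finset.sum_le_sum_of_subset_of_nonneg (fun z hz => by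
                simp only [Finset.mem_insert, Finset.mem_singleton] at hz
                rcases hz with rfl | rfl <;> simp [hS, hx, h1, h2, h3, h4])
                (fun z _ _ => mul_self_nonneg _)
          _ = 1 := by linarith
      have h7 := mul_self_pos.2 (fun h => hx0 (by rw [h, mul_zero]) : D.B i x ≠ 0)
      have h8 := mul_self_nonneg (D.B i y)
      exact mul_self_eq_zero.1 (le_antisymm (by linarith) h8)
    -- rows of opposite type agree at their fourth entries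
    have hcross : ∀ i l, (D.B i v₀ = D.A₂ v₀ ∧ D.B i w₀ = 0) →
        (D.B l v₀ = 0 ∧ D.B l w₀ = D.A₂ w₀) →
        ∀ y, y ≠ v₀ → y ≠ w₀ → D.B i y = D.B l y := by
      intro i l hi hl
      have hil : i ≠ l := by
        rintro rfl
        rw [hi.1] at hl
        rcases hv₂ _ hv₀.2 with c | c <;> omega
      have hg := D.g34 i l hil
      obtain ⟨x, hxo, hxu, hxe, hxv, hxw, hx⟩ := hfour i
      obtain ⟨x', hxo', hxu', hxe', hxv', hxw', hx'⟩ := hfour l
      obtain ⟨ov, uv, -⟩ := hout _ hv₀.2 hv₀.1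
      obtain ⟨ow, uw, -⟩ := hout _ hw₀.2 hw₀.1
      have hsum : ∑ y, D.B i y * D.B l y = 2 + D.B i x * D.B l x := by
        rw [← Finset.sum_subset (Finset.subset_univ ({D.o, e, x} : Finset X)) (fun y _ hy => by
            simp only [Finset.mem_insert, Finset.mem_singleton, not_or] at hy
            by_cases hyv : y = v₀
            · rw [hyv, hl.1, mul_zero]
            by_cases hyw : y = w₀
            · rw [hyw, hi.2, zero_mul]
            rw [hx y hy.1 hy.2.1 hyv hyw hy.2.2, zero_mul]),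
          Finset.sum_insert (by simp [Ne.symm he.1, Ne.symm hxo]),
          Finset.sum_pair (Ne.symm hxe), D.one3, D.one3, (key i).2.1, (key l).2.1]
        rcases hv₁ _ he.2 with c | c <;> rw [c] <;> ring
      rw [hsum] at hg
      have hprod : D.B i x * D.B l x = 1 := by omega
      have hxx : x = x' := by
        by_contra hne
        rw [hx' x hxo hxe hxv hxw hne, mul_zero] at hprod
        exact zero_ne_one hprod
      intro y hyv hyw
      by_cases hyo : y = D.o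
      · rw [hyo, D.one3, D.one3]
      by_cases hye : y = e
      · rw [hye, (key i).2.1, (key l).2.1]
      by_cases hyx : y = x
      · subst hyx
        rcases Int.eq_one_or_neg_one_of_mul_eq_one hprod with h | h <;> rw [h] at hprod ⊢ <;> omega
      rw [hx y hyo hye hyv hyw hyx, hx' y hyo hye hyv hyw (hxx ▸ hyx)]
    obtain ⟨l, hlj, hlk⟩ : ∃ l, l ≠ j ∧ l ≠ k := by
      by_contra hc
      push Not at hc
      have : (Finset.univ : Finset J) ⊆ {j, k} := fun l _ => by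
        simp only [Finset.mem_insert, Finset.mem_singleton]
        by_cases h : l = j
        · exact Or.inl h
        · exact Or.inr (hc l h)
      have := (Finset.card_le_card this).trans Finset.card_le_two
      rw [Finset.card_univ] at this
      omega
    rcases (key l).2.2 with hl | hl
    · have heq : D.B l = D.B j := funext fun y => by
        by_cases hyv : y = v₀
        · rw [hyv, hl.1, hj'.1]
        by_cases hyw : y = w₀
        · rw [hyw, hl.2, hj'.2]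
        rw [hcross l k hl hk' y hyv hyw, hcross j k hj' hk' y hyv hyw]
      have := D.g34 l j hlj
      rw [heq, D.g33] at this
      norm_num at this
    · have heq : D.B l = D.B k := funext fun y => by
        by_cases hyv : y = v₀
        · rw [hyv, hl.1, hk'.1]
        by_cases hyw : y = w₀
        · rw [hyw, hl.2, hk'.2]
        rw [← hcross j l hj' hl y hyv hyw, hcross j k hj' hk' y hyv hyw]
      have := D.g34 l k hlk
      rw [heq, D.g33] at this
      norm_num at this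
  obtain ⟨ov, uv, A1v⟩ := hout _ hv₀.2 hv₀.1
  obtain ⟨ow, uw, A1w⟩ := hout _ hw₀.2 hw₀.1
  rcases hsame with hs | hs
  · exact ⟨u, e, v₀, w₀, hu.1, he.1, ov, ow, hue, Ne.symm hv₀.1, Ne.symm hw₀.1, hvw, hv₁ _ hu.2,
      hv₁ _ he.2, hcom, hv₂ _ hv₀.2, hv₂ _ hw₀.2, A1v, A1w, hAu, hz1, hz2,
      fun j => ⟨(key j).1, (key j).2.1, (hs j).1, (hs j).2⟩⟩
  · exact ⟨u, e, w₀, v₀, hu.1, he.1, ow, ov, hue, Ne.symm hw₀.1, Ne.symm hv₀.1, hvw.symm,
      hv₁ _ hu.2, hv₁ _ he.2, hcom, hv₂ _ hw₀.2, hv₂ _ hv₀.2, A1w, A1v, hAu, hz1,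
      fun x a b c => hz2 x a c b, fun j => ⟨(key j).1, (key j).2.1, (hs j).2, (hs j).1⟩⟩

/-- The two structure sums in terms of four signed degrees. -/
theorem sums (hJ : 3 ≤ Fintype.card J) (Q : ℤ) (s : J → ℤ) (hs : ∑ j, s j = -1) :
    ∃ U E V W : ℤ, U ≠ 0 ∧ E ≠ 0 ∧ V ≠ 0 ∧ W ≠ 0 ∧ V ≠ 1 ∧ E ≠ -1 ∧ 1 + U + E = 0 ∧
      E + V + W = 0 ∧
      ∑ x, (D.A₁ x : ℚ) * ((D.val Q s x : ℚ) ^ 2 / (D.d x : ℚ)) =
        1 + (Q : ℚ) ^ 2 / U + ((Q : ℚ) + 1) ^ 2 / E ∧
      ∑ x, (D.A₂ x : ℚ) * ((D.val Q s x : ℚ) ^ 2 / (D.d x : ℚ)) =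
        ((Q : ℚ) + 1) ^ 2 / E + 1 / V + (Q : ℚ) ^ 2 / W := by
  classical
  obtain ⟨u, e, v, w, huo, heo, hvo, hwo, hue, hev, hew, hvw, au, ae, aee, av, aw, a1v, a1w, a2u,
    hz1, hz2, hB⟩ := D.shape hJ
  have hsum : ∀ x c, (∀ j, D.B j x = c) → ∑ j, s j * D.B j x = -c := fun x c h => by
    simp only [h, ← Finset.sum_mul, hs]; ring
  have vo : D.val Q s D.o = 1 := by
    rw [val, hsum _ _ D.one3, D.one1, D.one2]; ring
  have vu : D.val Q s u = Q * D.A₁ u := by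
    rw [val, hsum _ _ fun j => (hB j).1, a2u]; ring
  have ve : D.val Q s e = (Q + 1) * D.A₁ e := by
    rw [val, hsum _ _ fun j => (hB j).2.1, aee]; ring
  have vv : D.val Q s v = D.A₂ v := by
    rw [val, hsum _ _ fun j => (hB j).2.2.1, a1v]; ring
  have vw : D.val Q s w = Q * D.A₂ w := by
    rw [val, hsum _ _ fun j => (hB j).2.2.2, a1w]; ring
  have key : ∀ (a : ℤ) (x : X) (c : ℚ), (a = 1 ∨ a = -1) →
      (a : ℚ) * ((c * a) ^ 2 / (D.d x : ℚ)) = c ^ 2 / ((a * D.d x : ℤ) : ℚ) := by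
    rintro a x c (rfl | rfl) <;> push_cast <;> ring
  have hd1 := D.deg1
  have hd1' := sum_three (f := D.A₁) (Ne.symm huo) (Ne.symm heo) hue hz1 (R := ℤ) D.d
  simp only [Int.cast_id] at hd1'
  rw [hd1', D.one1, D.d_one, one_mul] at hd1
  have hd2 := D.deg2
  have hd2' := sum_three (f := D.A₂) hev hew hvw hz2 (R := ℤ) D.d
  simp only [Int.cast_id] at hd2'
  rw [hd2', aee] at hd2
  have hne : ∀ (a : ℤ) (x : X), (a = 1 ∨ a = -1) → a * D.d x ≠ 0 := fun a x h => by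
    have := D.d_pos x
    rcases h with rfl | rfl <;> omega
  have hne1 : ∀ (a : ℤ) (x : X), x ≠ D.o → (a = 1 ∨ a = -1) → a * D.d x ≠ 1 ∧ a * D.d x ≠ -1 :=
    fun a x hx h => by
    have := D.d_pos x
    have := D.d_ne x hx
    rcases h with rfl | rfl <;> omega
  refine ⟨D.A₁ u * D.d u, D.A₁ e * D.d e, D.A₂ v * D.d v, D.A₂ w * D.d w, hne _ _ au, hne _ _ ae,
    hne _ _ av, hne _ _ aw, (hne1 _ _ hvo av).1, (hne1 _ _ heo ae).2, hd1, hd2, ?_, ?_⟩
  · rw [sum_three (Ne.symm huo) (Ne.symm heo) hue hz1, vo, vu, ve, D.one1, D.d_one]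
    push_cast
    rw [key _ u (Q : ℚ) au, key _ e ((Q : ℚ) + 1) ae]
    push_cast
    ring
  · rw [sum_three hev hew hvw hz2, ve, vv, vw, aee]
    push_cast
    have h1 := key _ v (1 : ℚ) av
    rw [one_mul, one_pow] at h1
    rw [key _ e ((Q : ℚ) + 1) ae, key _ w (Q : ℚ) aw, h1]
    push_cast
    ring

/-- The row of `B j` read through `A₂`: one further signed degree `Y` with `W = 1 + Y`. -/
theorem sum_third (hJ : 3 ≤ Fintype.card J) (Q : ℤ) (s : J → ℤ) (hs : ∑ j, s j = -1)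
    (hs2 : ∀ j, s j = 1 ∨ s j = -1) (j : J) :
    ∃ Y : ℤ, Y ≠ 0 ∧ Y ≠ -1 ∧
      ∑ x, ((D.B j x : ℚ) - (D.A₂ x : ℚ)) * ((D.val Q s x : ℚ) ^ 2 / (D.d x : ℚ)) =
        1 + ((Q : ℚ) - 1) ^ 2 / Y - (Q : ℚ) ^ 2 / (1 + Y) := by
  classical
  obtain ⟨u, e, v, w, huo, heo, hvo, hwo, hue, hev, hew, hvw, au, ae, aee, av, aw, a1v, a1w, a2u,
    hz1, hz2, hB⟩ := D.shape hJ
  have sq : ∀ a : ℤ, (a = 1 ∨ a = -1) → a * a = 1 := fun a h => by rcases h with rfl | rfl <;> rfl
  set S : Finset X := {D.o, e, v} with hS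
  have hS3 : ∀ i, ∑ x ∈ S, D.B i x * D.B i x = 3 := fun i => by
    rw [hS, Finset.sum_insert (by simp [Ne.symm heo, Ne.symm hvo]), Finset.sum_pair hev, D.one3,
      (hB i).2.1, (hB i).2.2.1, sq _ ae, sq _ av]
    norm_num
  have hrest : ∀ i, ∑ x ∈ Sᶜ, D.B i x * D.B i x = 1 := fun i => by
    have h := D.g33 i
    rw [← Finset.sum_add_sum_compl S, hS3] at h
    linarith
  obtain ⟨y, hy, hy0⟩ := Finset.exists_ne_zero_of_sum_ne_zero
    (show ∑ x ∈ Sᶜ, D.B j x * D.B j x ≠ 0 by rw [hrest]; norm_num)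
  have hyj : D.B j y = 1 ∨ D.B j y = -1 := by
    have h1 : D.B j y * D.B j y ≤ 1 := hrest j ▸ Finset.single_le_sum
      (f := fun x => D.B j x * D.B j x) (fun x _ => mul_self_nonneg _) hy
    have h2 : D.B j y ≠ 0 := fun h => hy0 (by rw [h, mul_zero])
    have h3 : D.B j y ≤ 1 := by nlinarith
    have h4 : -1 ≤ D.B j y := by nlinarith
    omega
  simp only [hS, Finset.mem_compl, Finset.mem_insert, Finset.mem_singleton, not_or] at hy
  obtain ⟨hyo, hye, hyv⟩ := hy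
  have hzj : ∀ x, x ≠ D.o → x ≠ e → x ≠ v → x ≠ y → D.B j x = 0 := by
    intro x h1 h2 h3 h4
    have h6 : D.B j y * D.B j y + D.B j x * D.B j x ≤ 1 := by
      rw [← Finset.sum_pair (f := fun z => D.B j z * D.B j z) (Ne.symm h4), ← hrest j]
      refine Finset.sum_le_sum_of_subset_of_nonneg (fun z hz => ?_) (fun z _ _ => mul_self_nonneg _)
      simp only [Finset.mem_insert, Finset.mem_singleton] at hz
      rcases hz with rfl | rfl <;> simp [hS, h1, h2, h3, hyo, hye, hyv]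
    rw [sq _ hyj] at h6
    exact mul_self_eq_zero.1 (le_antisymm (by linarith) (mul_self_nonneg _))
  have hyu : y ≠ u := fun h => by
    rw [h, (hB j).1] at hyj; norm_num at hyj
  have hyw : y ≠ w := fun h => by
    rw [h, (hB j).2.2.2] at hyj; norm_num at hyj
  have hbk : ∀ k, k ≠ j → D.B k y = 0 := by
    intro k hk
    have h := D.g34 j k (Ne.symm hk)
    rw [← Finset.sum_subset (Finset.subset_univ ({D.o, e, v, y} : Finset X))
        (fun x _ hx => by
          simp only [Finset.mem_insert, Finset.mem_singleton, not_or] at hx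
          rw [hzj x hx.1 hx.2.1 hx.2.2.1 hx.2.2.2, zero_mul]),
      Finset.sum_insert (by simp [Ne.symm heo, Ne.symm hvo, Ne.symm hyo]),
      Finset.sum_insert (by simp [hev, Ne.symm hye]), Finset.sum_pair (Ne.symm hyv), D.one3, D.one3,
      (hB j).2.1, (hB k).2.1, (hB j).2.2.1, (hB k).2.2.1, sq _ ae, sq _ av] at h
    rcases hyj with a | a <;> rw [a] at h <;> omega
  have vy : D.val Q s y = (Q - 1) * s j * D.B j y := by
    rw [val, hz1 y hyo hyu hye, hz2 y hye hyv hyw,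
      Finset.sum_eq_single j (fun k _ hk => by rw [hbk k hk, mul_zero]) (by simp)]
    ring
  have hd2 := D.deg2
  have hd2' := sum_three (f := D.A₂) hev hew hvw hz2 (R := ℤ) D.d
  simp only [Int.cast_id] at hd2'
  rw [hd2', aee] at hd2
  have hd3 := D.deg3 j
  rw [← Finset.sum_subset (Finset.subset_univ ({D.o, e, v, y} : Finset X))
      (fun x _ hx => by
        simp only [Finset.mem_insert, Finset.mem_singleton, not_or] at hx
        rw [hzj x hx.1 hx.2.1 hx.2.2.1 hx.2.2.2, zero_mul]),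
    Finset.sum_insert (by simp [Ne.symm heo, Ne.symm hvo, Ne.symm hyo]),
    Finset.sum_insert (by simp [hev, Ne.symm hye]), Finset.sum_pair (Ne.symm hyv), D.one3, D.d_one,
    (hB j).2.1, (hB j).2.2.1] at hd3
  have hW : D.A₂ w * D.d w = 1 + D.B j y * D.d y := by linarith
  have hY0 : D.B j y * D.d y ≠ 0 := by
    have := D.d_pos y
    rcases hyj with a | a <;> rw [a] <;> omega
  have hY1 : D.B j y * D.d y ≠ -1 := by
    have := D.d_pos y
    have := D.d_ne y hyo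
    rcases hyj with a | a <;> rw [a] <;> omega
  refine ⟨D.B j y * D.d y, hY0, hY1, ?_⟩
  have vo : D.val Q s D.o = 1 := by
    rw [val, D.one1, D.one2]
    simp only [D.one3, mul_one, hs]; ring
  have vw : D.val Q s w = Q * D.A₂ w := by
    rw [val, a1w]
    simp only [fun k => (hB k).2.2.2, mul_zero, Finset.sum_const_zero]; ring
  rw [← Finset.sum_subset (Finset.subset_univ ({D.o, y, w} : Finset X))
      (fun x _ hx => by
        simp only [Finset.mem_insert, Finset.mem_singleton, not_or] at hx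
        by_cases hxe : x = e
        · rw [hxe, (hB j).2.1, aee, sub_self, zero_mul]
        by_cases hxv : x = v
        · rw [hxv, (hB j).2.2.1, sub_self, zero_mul]
        rw [hzj x hx.1 hxe hxv hx.2.1, hz2 x hxe hxv hx.2.2, sub_self, zero_mul]),
    Finset.sum_insert (by simp [Ne.symm hyo, Ne.symm hwo]), Finset.sum_pair hyw, vo, vy, vw,
    D.one2, D.one3, hz2 y hye hyv hyw, (hB j).2.2.2, D.d_one]
  have eW : (1 : ℚ) + ((D.B j y * D.d y : ℤ) : ℚ) = ((D.A₂ w * D.d w : ℤ) : ℚ) := by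
    rw [hW]; push_cast; ring
  rw [eW]
  rcases hyj with a | a <;> rcases aw with b | b <;> rcases hs2 j with c | c <;>
    rw [a, b, c] <;> push_cast <;> ring

end RowData

end Cfsg.Agent.H84.SD
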