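import Cfsg.Agent.H84.SD.Arith
import Cfsg.Agent.H84.SD.Rows
import Cfsg.Agent.CharBasic.Complete
import Cfsg.Agent.CharBasic.Kernel
import Cfsg.Agent.CharInduce.Induce
import Cfsg.Agent.H83.ClassConst
import Mathlib.GroupTheory.Subgroup.Simple

/-!
# Brauer's order formula from three kinds of functions on the centraliser of an involution

`th` are class functions on `C = C(t)` supported on the `x` with `t ∈ ⟨x⟩` (principal-block
generalised characters in the semidihedral case).  Their coefficient vectors on the irreducible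
characters of `G` have the same inner products, and the class multiplication of involutions turns
them into `|G| (T² Q) (E + Q + 1)² = |C|³ (Q + 1) E (E + 1)`.
-/

set_option autoImplicit false
set_option linter.style.haveILetI false
set_option linter.unusedSectionVars false

namespace Cfsg.Agent.H84.SD

open Subgroup Cfsg Cfsg.Agent.CharBasic Cfsg.Agent.CharInduce Finset
open scoped ComplexConjugate

universe u w

variable {G : Type u} [Group G] [Fintype G] {t : G}

variable [Fintype (centralizer ({t} : Set G))]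

/-- Two elements with square one in one cyclic group of finite order, both non-trivial, are equal. -/
theorem eq_of_mem_zpowers {a b x : G} (ha : a ∈ zpowers x) (hb : b ∈ zpowers x) (ha2 : a * a = 1)
    (hb2 : b * b = 1) (ha1 : a ≠ 1) (hb1 : b ≠ 1) : a = b := by
  classical
  by_contra hne
  haveI : Fintype (zpowers x) := Fintype.ofFinite _
  have h := IsCyclic.card_pow_eq_one_le (α := zpowers x) (n := 2) (by norm_num)
  have hsub : ({1, ⟨a, ha⟩, ⟨b, hb⟩} : Finset (zpowers x)) ⊆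
      Finset.univ.filter fun z => z ^ 2 = 1 := by
    intro z hz
    simp only [Finset.mem_insert, Finset.mem_singleton] at hz
    rcases hz with rfl | rfl | rfl <;> simp [Subtype.ext_iff, pow_two, ha2, hb2]
  have h3 : ({1, ⟨a, ha⟩, ⟨b, hb⟩} : Finset (zpowers x)).card = 3 := by
    rw [Finset.card_insert_of_notMem (by simp [Subtype.ext_iff, Ne.symm ha1, Ne.symm hb1]),
      Finset.card_pair (by simp [Subtype.ext_iff, hne])]
  have := (Finset.card_le_card hsub).trans h
  omega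

/-- Conjugation between elements having `t` as their power stays in `C(t)`. -/
theorem mem_of_conj (ht : orderOf t = 2) {x y g : G} (hx : t ∈ zpowers x) (hy : t ∈ zpowers y)
    (hg : g * x * g⁻¹ ∈ zpowers y) : g ∈ centralizer ({t} : Set G) := by
  have ht2 : t * t = 1 := by rw [← pow_two, ← ht, pow_orderOf_eq_one]
  have ht1 : t ≠ 1 := fun h => by rw [h, orderOf_one] at ht; exact absurd ht (by norm_num)
  have h1 : g * t * g⁻¹ ∈ zpowers y := by
    obtain ⟨i, hi⟩ := mem_zpowers_iff.1 hx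
    rw [← hi, ← conj_zpow]
    exact zpow_mem hg i
  have h2 : g * t * g⁻¹ = t := eq_of_mem_zpowers h1 hy
    (by rw [show g * t * g⁻¹ * (g * t * g⁻¹) = g * (t * t) * g⁻¹ by group, ht2]; group) ht2
    (fun e => ht1 (by
      calc t = g⁻¹ * (g * t * g⁻¹) * g := by group
        _ = 1 := by rw [e]; group)) ht1
  exact mem_centralizer_singleton_iff.2 (mul_inv_eq_iff_eq_mul.1 h2)

/-- The coefficient of a character in a function induced from `C(t)`. -/
noncomputable def coeff (f : (centralizer ({t} : Set G)) → ℂ) (χ : IrrCharacter G) : ℂ :=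
  classInner f fun k : (centralizer ({t} : Set G)) => (χ : G → ℂ) k

theorem coeff_apply (f : (centralizer ({t} : Set G)) → ℂ) (χ : IrrCharacter G) :
    coeff f χ = (Nat.card (centralizer ({t} : Set G)) : ℂ)⁻¹ * ∑ k : (centralizer ({t} : Set G)), f k * conj ((χ : G → ℂ) k) := by
  rw [coeff, classInner_def]

theorem exists_coeff {f : (centralizer ({t} : Set G)) → ℂ} (hf : IsGeneralizedCharacter (centralizer ({t} : Set G)) f) (χ : IrrCharacter G) :
    ∃ n : ℤ, coeff f χ = n :=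
  CharInduce.IsGen.exists_int_coeff hf (IsChar.comp (IsIrr.isCharacter χ.2) ((centralizer ({t} : Set G))).subtype)

/-- The number of pairs of involutions with product `x`. -/
noncomputable def pairs (t : G) (x : centralizer ({t} : Set G)) : ℕ :=
  Nat.card {a : centralizer ({t} : Set G) // orderOf a = 2 ∧ orderOf (a⁻¹ * x) = 2}

/-- Support on the elements having `t` as a power. -/
def Special (f : (centralizer ({t} : Set G)) → ℂ) : Prop := ∀ x : (centralizer ({t} : Set G)), f x ≠ 0 → t ∈ zpowers (x : G)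

theorem column_inner [DecidableEq G] (ht : orderOf t = 2) {x y : (centralizer ({t} : Set G))} (hx : t ∈ zpowers (x : G))
    (hy : t ∈ zpowers (y : G)) :
    ∑ χ : IrrCharacter G, (χ : G → ℂ) x * conj ((χ : G → ℂ) y) =
      ∑ h : (centralizer ({t} : Set G)), if h * y * h⁻¹ = x then (1 : ℂ) else 0 := by
  classical
  rw [second_orthogonality_count, Finset.sum_boole]
  congr 1
  rw [← Fintype.card_subtype, ← Nat.card_eq_fintype_card]
  refine Nat.card_congr ⟨fun g => ⟨⟨g.1, mem_of_conj ht hy hx (by rw [g.2]; exact mem_zpowers _)⟩,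
    Subtype.ext g.2⟩, fun h => ⟨(h.1 : G), congrArg Subtype.val h.2⟩, fun g => rfl, fun h => rfl⟩

theorem gram_coeff (ht : orderOf t = 2) {f g : (centralizer ({t} : Set G)) → ℂ} (hf : IsGeneralizedCharacter (centralizer ({t} : Set G)) f)
    (hg : IsGeneralizedCharacter (centralizer ({t} : Set G)) g) (sf : Special f) (sg : Special g) :
    ∑ χ : IrrCharacter G, coeff f χ * coeff g χ = classInner f g := by
  classical
  set N : ℂ := (Nat.card (centralizer ({t} : Set G)) : ℂ) with hN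
  have hN0 : N ≠ 0 := card_ne_zero_complex (centralizer ({t} : Set G))
  have hreal : ∀ χ, conj (coeff g χ) = coeff g χ := fun χ => by
    obtain ⟨n, hn⟩ := exists_coeff hg χ
    rw [hn, map_intCast]
  have hconjN : conj N⁻¹ = N⁻¹ := by rw [map_inv₀, hN, map_natCast]
  have h1 : ∀ χ : IrrCharacter G, coeff f χ * coeff g χ =
      N⁻¹ * N⁻¹ * ∑ x : (centralizer ({t} : Set G)), ∑ y : (centralizer ({t} : Set G)), f x * conj (g y) *
        ((χ : G → ℂ) y * conj ((χ : G → ℂ) x)) := fun χ => by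
    rw [← hreal χ, coeff_apply, coeff_apply, map_mul, hconjN, map_sum, mul_mul_mul_comm,
      Finset.sum_mul_sum]
    congr 1
    refine Finset.sum_congr rfl fun x _ => Finset.sum_congr rfl fun y _ => ?_
    rw [map_mul, Complex.conj_conj]; ring
  rw [Finset.sum_congr rfl fun χ _ => h1 χ, ← Finset.mul_sum, Finset.sum_comm]
  rw [Finset.sum_congr rfl fun x _ => Finset.sum_comm]
  simp only [← Finset.mul_sum]
  have h2 : ∀ x y : (centralizer ({t} : Set G)), f x * conj (g y) *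
      ∑ χ : IrrCharacter G, (χ : G → ℂ) y * conj ((χ : G → ℂ) x) =
      ∑ h : (centralizer ({t} : Set G)), if h * x * h⁻¹ = y then f x * conj (g y) else 0 := by
    intro x y
    by_cases hx : f x = 0
    · simp [hx]
    by_cases hy : g y = 0
    · simp [hy]
    rw [column_inner ht (sg y hy) (sf x hx), Finset.mul_sum]
    simp only [mul_ite, mul_one, mul_zero]
  rw [Finset.sum_congr rfl fun x _ => Finset.sum_congr rfl fun y _ => h2 x y]
  have hconj : ∀ h x : (centralizer ({t} : Set G)), g (h * x * h⁻¹) = g x := fun h x =>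
    CharInduce.IsGen.isClassFunction hg x h
  rw [show (∑ x : (centralizer ({t} : Set G)), ∑ y : (centralizer ({t} : Set G)), ∑ h : (centralizer ({t} : Set G)), if h * x * h⁻¹ = y then f x * conj (g y) else 0) =
      ∑ x : (centralizer ({t} : Set G)), N * (f x * conj (g x)) from Finset.sum_congr rfl fun x _ => by
    rw [Finset.sum_comm]
    simp only [Finset.sum_ite_eq, Finset.mem_univ, if_true, hconj, Finset.sum_const,
      Finset.card_univ, ← Nat.card_eq_fintype_card, nsmul_eq_mul, hN]]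
  rw [← Finset.mul_sum, classInner_def, ← hN, ← mul_assoc, mul_assoc N⁻¹ N⁻¹ N,
    inv_mul_cancel₀ hN0, mul_one]

theorem degree_coeff (ht : orderOf t = 2) {f : (centralizer ({t} : Set G)) → ℂ} (sf : Special f) :
    ∑ χ : IrrCharacter G, coeff f χ * (χ : G → ℂ) 1 = 0 := by
  simp only [coeff_apply, mul_assoc, Finset.sum_mul, ← Finset.mul_sum]
  rw [Finset.sum_comm]
  refine mul_eq_zero_of_right _ (Finset.sum_eq_zero fun x _ => ?_)
  rw [← Finset.mul_sum]
  by_cases hx : f x = 0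
  · rw [hx, zero_mul]
  · refine mul_eq_zero_of_right _ ?_
    have h := second_orthogonality_not_isConj (g := (1 : G)) (h := (x : G)) (fun hc => by
      rw [isConj_one_right] at hc
      have := sf x hx
      rw [hc, zpowers_one_eq_bot, mem_bot] at this
      rw [this, orderOf_one] at ht
      exact absurd ht (by norm_num))
    rw [← h]
    exact Finset.sum_congr rfl fun χ _ => mul_comm _ _

theorem card_pairs_eq (ht : orderOf t = 2)
    (hinv : ∀ a : (centralizer ({t} : Set G)), orderOf a = 2 → IsConj t (a : G)) {x : (centralizer ({t} : Set G))} (hx : t ∈ zpowers (x : G)) :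
    Nat.card {a : G // IsConj t a ∧ IsConj t (a⁻¹ * (x : G))} = pairs t x := by
  have hord : ∀ {a : G}, IsConj t a → orderOf a = 2 := fun {a} h => by
    obtain ⟨c, rfl⟩ := isConj_iff.1 h
    exact (MulEquiv.orderOf_eq (MulAut.conj c) t).trans ht
  have hmem : ∀ a : G, IsConj t a → IsConj t (a⁻¹ * (x : G)) → a ∈ (centralizer ({t} : Set G)) := by
    intro a ha hb
    refine mem_of_conj ht hx hx ?_
    have ha2 : a * a = 1 := by rw [← pow_two, ← hord ha, pow_orderOf_eq_one]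
    have hb2 : a⁻¹ * (x : G) * (a⁻¹ * (x : G)) = 1 := by
      rw [← pow_two, ← hord hb, pow_orderOf_eq_one]
    have : a * (x : G) * a⁻¹ = (x : G)⁻¹ := by
      rw [inv_eq_of_mul_eq_one_right ha2] at hb2 ⊢
      refine eq_inv_of_mul_eq_one_left ?_
      rw [← hb2]; group
    rw [this]
    exact inv_mem (mem_zpowers _)
  exact Nat.card_congr
    ⟨fun a => ⟨⟨a.1, hmem a.1 a.2.1 a.2.2⟩,
        (Subgroup.orderOf_coe _).symm.trans (hord a.2.1),
        (Subgroup.orderOf_coe _).symm.trans (hord a.2.2)⟩,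
      fun a => ⟨(a.1 : G), hinv _ a.2.1, hinv _ a.2.2⟩, fun a => rfl, fun a => rfl⟩

/-- The class multiplication identity against a special function. -/
theorem structure_coeff (ht : orderOf t = 2)
    (hinv : ∀ a : (centralizer ({t} : Set G)), orderOf a = 2 → IsConj t (a : G)) {f : (centralizer ({t} : Set G)) → ℂ}
    (hf : IsGeneralizedCharacter (centralizer ({t} : Set G)) f) (sf : Special f) :
    (Nat.card G : ℂ) * ∑ χ : IrrCharacter G,
        coeff f χ * conj ((χ : G → ℂ) t) ^ 2 / (χ : G → ℂ) 1 =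
      (Nat.card (centralizer ({t} : Set G)) : ℂ) * ∑ x : (centralizer ({t} : Set G)), conj (f x) * (pairs t x : ℂ) := by
  classical
  set N : ℂ := (Nat.card (centralizer ({t} : Set G)) : ℂ) with hN
  have hN0 : N ≠ 0 := card_ne_zero_complex (centralizer ({t} : Set G))
  have hidx : (((centralizer ({t} : Set G))).index : ℂ) * N = (Nat.card G : ℂ) := by
    rw [hN, ← index_mul_card ((centralizer ({t} : Set G)))]
    push_cast; rfl
  have hne : (((centralizer ({t} : Set G))).index : ℂ) ≠ 0 := fun h0 => by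
    rw [h0, zero_mul] at hidx
    exact card_ne_zero_complex G hidx.symm
  have hcol : ∀ x : (centralizer ({t} : Set G)), f x ≠ 0 → (Nat.card G : ℂ) * ∑ χ : IrrCharacter G,
      conj ((χ : G → ℂ) t) ^ 2 * (χ : G → ℂ) x / (χ : G → ℂ) 1 = N * N * (pairs t x : ℂ) := by
    intro x hx
    have h := H83.card_pairs_mul_card t t (x : G)
    rw [card_pairs_eq ht hinv (sf x hx)] at h
    rw [← hidx] at h ⊢
    apply mul_left_cancel₀ hne
    simp only [pow_two]
    linear_combination (-N) * h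
  have hreal : ∀ χ : IrrCharacter G, coeff f χ =
      N⁻¹ * ∑ k : (centralizer ({t} : Set G)), conj (f k) * (χ : G → ℂ) k := fun χ => by
    obtain ⟨n, hn⟩ := exists_coeff hf χ
    have h : coeff f χ = conj (coeff f χ) := by rw [hn, map_intCast]
    rw [h, coeff_apply, map_mul, map_inv₀, map_natCast, map_sum]
    simp [hN]
  calc (Nat.card G : ℂ) * ∑ χ : IrrCharacter G,
        coeff f χ * conj ((χ : G → ℂ) t) ^ 2 / (χ : G → ℂ) 1
      = N⁻¹ * ∑ k : (centralizer ({t} : Set G)), conj (f k) * ((Nat.card G : ℂ) * ∑ χ : IrrCharacter G,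
          conj ((χ : G → ℂ) t) ^ 2 * (χ : G → ℂ) k / (χ : G → ℂ) 1) := by
        simp only [Finset.mul_sum]
        rw [Finset.sum_comm]
        refine Finset.sum_congr rfl fun χ _ => ?_
        rw [hreal, Finset.mul_sum, Finset.sum_mul, Finset.sum_div, Finset.mul_sum]
        exact Finset.sum_congr rfl fun k _ => by ring
    _ = N⁻¹ * ∑ k : (centralizer ({t} : Set G)), N * N * (conj (f k) * (pairs t k : ℂ)) := by
        congr 1
        refine Finset.sum_congr rfl fun k _ => ?_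
        by_cases hk : f k = 0
        · simp [hk]
        · rw [hcol k hk]; ring
    _ = N * ∑ x : (centralizer ({t} : Set G)), conj (f x) * (pairs t x : ℂ) := by
        rw [← Finset.mul_sum, ← mul_assoc, ← mul_assoc, inv_mul_cancel₀ hN0, one_mul]

theorem eq_one_of_degree [IsSimpleGroup G] (hG : ¬ IsMulCommutative G) {χ : IrrCharacter G}
    (h1 : (χ : G → ℂ) 1 = 1) : (χ : G → ℂ) = fun _ => 1 := by
  obtain ⟨l, hl⟩ := IsChar.exists_hom_of_degree_one (IsIrr.isCharacter χ.2) h1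
  rcases (MonoidHom.normal_ker l).eq_bot_or_eq_top with h | h
  · exact absurd ⟨⟨fun a b => (MonoidHom.ker_eq_bot_iff l).1 h (by
      rw [map_mul, map_mul, mul_comm])⟩⟩ hG
  · funext g
    rw [hl, show l g = 1 from MonoidHom.mem_ker.1 (h ▸ mem_top g)]
    simp

/-- What the order formula needs about `C(t)`: the functions `a₁, a₂, a₃ j`, their inner products,
their pair sums, and the values at `t` of the characters they meet. -/
structure Funs (t : G) [Fintype (centralizer ({t} : Set G))] (J : Type w) [Fintype J] (Q : ℤ) (P P₃ : ℚ) where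
  a₁ : centralizer ({t} : Set G) → ℂ
  a₂ : centralizer ({t} : Set G) → ℂ
  a₃ : J → centralizer ({t} : Set G) → ℂ
  s : J → ℤ
  hs : ∑ j, s j = -1
  hs2 : ∀ j, s j = 1 ∨ s j = -1
  gen₁ : IsGeneralizedCharacter (centralizer ({t} : Set G)) a₁
  gen₂ : IsGeneralizedCharacter (centralizer ({t} : Set G)) a₂
  gen₃ : ∀ j, IsGeneralizedCharacter (centralizer ({t} : Set G)) (a₃ j)
  sp₁ : Special a₁
  sp₂ : Special a₂
  sp₃ : ∀ j, Special (a₃ j)
  g11 : classInner a₁ a₁ = 3
  g22 : classInner a₂ a₂ = 3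
  g12 : classInner a₁ a₂ = 1
  g13 : ∀ j, classInner a₁ (a₃ j) = 2
  g23 : ∀ j, classInner a₂ (a₃ j) = 2
  g33 : ∀ j, classInner (a₃ j) (a₃ j) = 4
  g34 : ∀ j k, j ≠ k → classInner (a₃ j) (a₃ k) = 3
  one₁ : classInner a₁ (fun _ => 1) = 1
  one₂ : classInner a₂ (fun _ => 1) = 0
  one₃ : ∀ j, classInner (a₃ j) (fun _ => 1) = 1
  hP₁ : ∑ x : centralizer ({t} : Set G), conj (a₁ x) * (pairs t x : ℂ) =
    (Nat.card (centralizer ({t} : Set G)) : ℂ) * (P : ℂ)
  hP₂ : ∑ x : centralizer ({t} : Set G), conj (a₂ x) * (pairs t x : ℂ) =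
    (Nat.card (centralizer ({t} : Set G)) : ℂ) * (P : ℂ)
  hP₃ : ∀ j, ∑ x : centralizer ({t} : Set G), conj (a₃ j x) * (pairs t x : ℂ) =
    (Nat.card (centralizer ({t} : Set G)) : ℂ) * (P₃ : ℂ)
  value : ∀ χ : IrrCharacter G, (coeff a₁ χ ≠ 0 ∨ coeff a₂ χ ≠ 0 ∨ ∃ j, coeff (a₃ j) χ ≠ 0) →
    conj ((χ : G → ℂ) t) =
      (Q : ℂ) * (coeff a₁ χ + coeff a₂ χ) + ((Q : ℂ) - 1) * ∑ j, (s j : ℂ) * coeff (a₃ j) χ

variable {J : Type w} [Fintype J] {Q : ℤ} {P P₃ : ℚ}

/-- The integer data and the structure equations of the rows. -/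
theorem exists_rows [IsSimpleGroup G] (hG : ¬ IsMulCommutative G) (ht : orderOf t = 2)
    (hinv : ∀ a : (centralizer ({t} : Set G)), orderOf a = 2 → IsConj t (a : G))
    (F : Funs t J Q P P₃) :
    ∃ D : RowData (IrrCharacter G) J,
      (Nat.card G : ℚ) * ∑ χ, (D.A₁ χ : ℚ) * ((D.val Q F.s χ : ℚ) ^ 2 / (D.d χ : ℚ)) =
          (Nat.card (centralizer ({t} : Set G)) : ℚ) ^ 2 * P ∧
      (Nat.card G : ℚ) * ∑ χ, (D.A₂ χ : ℚ) * ((D.val Q F.s χ : ℚ) ^ 2 / (D.d χ : ℚ)) =
          (Nat.card (centralizer ({t} : Set G)) : ℚ) ^ 2 * P ∧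
      ∀ j, (Nat.card G : ℚ) * ∑ χ, (D.B j χ : ℚ) * ((D.val Q F.s χ : ℚ) ^ 2 / (D.d χ : ℚ)) =
          (Nat.card (centralizer ({t} : Set G)) : ℚ) ^ 2 * P₃ := by
  classical
  choose A₁ hA₁ using fun χ => exists_coeff F.gen₁ χ
  choose A₂ hA₂ using fun χ => exists_coeff F.gen₂ χ
  choose B hB using fun j χ => exists_coeff (F.gen₃ j) χ
  choose d hdpos hd using fun χ : IrrCharacter G => CharBasic.IsIrr.exists_degree χ.2
  let o : IrrCharacter G := ⟨fun _ => 1, isIrrCharacter_one⟩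
  have hgram : ∀ {f g : (centralizer ({t} : Set G)) → ℂ} {a b : IrrCharacter G → ℤ} {n : ℤ}, IsGeneralizedCharacter (centralizer ({t} : Set G)) f →
      IsGeneralizedCharacter (centralizer ({t} : Set G)) g → Special f → Special g → (∀ χ, coeff f χ = a χ) →
      (∀ χ, coeff g χ = b χ) → classInner f g = (n : ℂ) → ∑ χ, a χ * b χ = n := by
    intro f g a b n hf hg sf sg ha hb h
    rw [← gram_coeff ht hf hg sf sg] at h
    simp only [ha, hb] at h
    exact_mod_cast h
  have hone : ∀ {f : (centralizer ({t} : Set G)) → ℂ} {a : IrrCharacter G → ℤ} {n : ℤ}, (∀ χ, coeff f χ = a χ) →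
      classInner f (fun _ => 1) = (n : ℂ) → a o = n := by
    intro f a n ha h
    have h1 := ha o
    rw [show coeff f o = classInner f (fun _ => 1) from rfl, h] at h1
    exact_mod_cast h1.symm
  have hdeg : ∀ {f : (centralizer ({t} : Set G)) → ℂ} {a : IrrCharacter G → ℤ}, Special f → (∀ χ, coeff f χ = a χ) →
      ∑ χ, a χ * (d χ : ℤ) = 0 := by
    intro f a sf ha
    have h := degree_coeff ht sf
    simp only [ha, hd] at h
    exact_mod_cast h
  let D : RowData (IrrCharacter G) J :=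
    { o := o, d := fun χ => (d χ : ℤ), A₁ := A₁, A₂ := A₂, B := B
      d_one := by
        have h : (d o : ℂ) = 1 := (hd o).symm
        exact_mod_cast h
      d_pos := fun χ => by exact_mod_cast hdpos χ
      d_ne := fun χ hχ h => hχ (Subtype.ext (by
        refine eq_one_of_degree hG ?_
        rw [hd χ]
        exact_mod_cast h))
      g11 := hgram F.gen₁ F.gen₁ F.sp₁ F.sp₁ hA₁ hA₁ (by rw [F.g11]; norm_num)
      g22 := hgram F.gen₂ F.gen₂ F.sp₂ F.sp₂ hA₂ hA₂ (by rw [F.g22]; norm_num)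
      g12 := hgram F.gen₁ F.gen₂ F.sp₁ F.sp₂ hA₁ hA₂ (by rw [F.g12]; norm_num)
      g13 := fun j => hgram F.gen₁ (F.gen₃ j) F.sp₁ (F.sp₃ j) hA₁ (hB j) (by rw [F.g13]; norm_num)
      g23 := fun j => hgram F.gen₂ (F.gen₃ j) F.sp₂ (F.sp₃ j) hA₂ (hB j) (by rw [F.g23]; norm_num)
      g33 := fun j => hgram (F.gen₃ j) (F.gen₃ j) (F.sp₃ j) (F.sp₃ j) (hB j) (hB j)
        (by rw [F.g33]; norm_num)
      g34 := fun j k hjk => hgram (F.gen₃ j) (F.gen₃ k) (F.sp₃ j) (F.sp₃ k) (hB j) (hB k)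
        (by rw [F.g34 j k hjk]; norm_num)
      one1 := hone hA₁ (by rw [F.one₁]; norm_num)
      one2 := hone hA₂ (by rw [F.one₂]; norm_num)
      one3 := fun j => hone (hB j) (by rw [F.one₃]; norm_num)
      deg1 := hdeg F.sp₁ hA₁
      deg2 := hdeg F.sp₂ hA₂
      deg3 := fun j => hdeg (F.sp₃ j) (hB j) }
  have hval : ∀ χ, (A₁ χ ≠ 0 ∨ A₂ χ ≠ 0 ∨ ∃ j, B j χ ≠ 0) →
      conj ((χ : G → ℂ) t) = (D.val Q F.s χ : ℂ) := by
    intro χ hχ
    rw [F.value χ (hχ.imp (fun h => by rw [hA₁]; exact_mod_cast h)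
      (fun h => h.imp (fun h => by rw [hA₂]; exact_mod_cast h)
        (fun ⟨j, h⟩ => ⟨j, by rw [hB]; exact_mod_cast h⟩))), hA₁, hA₂, RowData.val]
    push_cast
    congr 1
    congr 1
    exact Finset.sum_congr rfl fun j _ => by rw [hB]
  have key : ∀ {f : (centralizer ({t} : Set G)) → ℂ} {a : IrrCharacter G → ℤ}, IsGeneralizedCharacter (centralizer ({t} : Set G)) f → Special f →
      (∀ χ, coeff f χ = a χ) → ∀ {R : ℚ}, (∀ χ, a χ ≠ 0 → A₁ χ ≠ 0 ∨ A₂ χ ≠ 0 ∨ ∃ j, B j χ ≠ 0) →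
      ∑ x : (centralizer ({t} : Set G)), conj (f x) * (pairs t x : ℂ) = (Nat.card (centralizer ({t} : Set G)) : ℂ) * (R : ℂ) →
      (Nat.card G : ℚ) * ∑ χ, (a χ : ℚ) * ((D.val Q F.s χ : ℚ) ^ 2 / (D.d χ : ℚ)) =
        (Nat.card (centralizer ({t} : Set G)) : ℚ) ^ 2 * R := by
    intro f a hf sf ha R hsup hP
    have h := structure_coeff ht hinv hf sf
    rw [hP] at h
    have e : ∀ χ : IrrCharacter G, coeff f χ * conj ((χ : G → ℂ) t) ^ 2 / (χ : G → ℂ) 1 =
        (((a χ : ℚ) * ((D.val Q F.s χ : ℚ) ^ 2 / (D.d χ : ℚ)) : ℚ) : ℂ) := by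
      intro χ
      by_cases h0 : a χ = 0
      · rw [ha, h0]; simp
      · rw [ha, hval χ (hsup χ h0), hd χ]
        push_cast [D]
        ring
    rw [Finset.sum_congr rfl fun χ _ => e χ, ← Rat.cast_sum] at h
    apply Rat.cast_injective (α := ℂ)
    push_cast at h ⊢
    linear_combination h
  exact ⟨D, key F.gen₁ F.sp₁ hA₁ (fun χ h => Or.inl h) F.hP₁,
    key F.gen₂ F.sp₂ hA₂ (fun χ h => Or.inr (Or.inl h)) F.hP₂,
    fun j => key (F.gen₃ j) (F.sp₃ j) (hB j) (fun χ h => Or.inr (Or.inr ⟨j, h⟩)) (F.hP₃ j)⟩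

/-- Brauer's equations. -/
theorem order_eq [IsSimpleGroup G] (hG : ¬ IsMulCommutative G) (ht : orderOf t = 2)
    (hinv : ∀ a : (centralizer ({t} : Set G)), orderOf a = 2 → IsConj t (a : G))
    (hJ : 3 ≤ Fintype.card J) (F : Funs t J Q P P₃) :
    ∃ E V Y : ℤ, E ≠ 0 ∧ E ≠ -1 ∧ Y ≠ 0 ∧ Y ≠ -1 ∧ E ^ 2 + E * (V + 1) = (Q ^ 2 - 1) * V ∧
      (Nat.card G : ℚ) * ((E + Q + 1 : ℤ) : ℚ) ^ 2 =
        (Nat.card (centralizer ({t} : Set G)) : ℚ) ^ 2 * P * ((E : ℚ) * (E + 1)) ∧
      (Nat.card G : ℚ) * ((Y - Q + 1 : ℤ) : ℚ) ^ 2 =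
        (Nat.card (centralizer ({t} : Set G)) : ℚ) ^ 2 * (P₃ - P) * ((Y : ℚ) * (Y + 1)) := by
  obtain ⟨D, e1, e2, e3⟩ := exists_rows hG ht hinv F
  obtain ⟨U, E, V, W, hU, hE, hV, hW, hV1, hE1, h1, h2, s1, s2⟩ := D.sums hJ Q F.s F.hs
  obtain ⟨j⟩ : Nonempty J := Fintype.card_pos_iff.1 (by omega)
  obtain ⟨Y, hY, hY1, s3⟩ := D.sum_third hJ Q F.s F.hs F.hs2 j
  simp only [sub_mul, Finset.sum_sub_distrib] at s3
  have e4 : (Nat.card G : ℚ) * (1 + ((Q : ℚ) - 1) ^ 2 / Y - (Q : ℚ) ^ 2 / (1 + Y)) =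
      (Nat.card (centralizer ({t} : Set G)) : ℚ) ^ 2 * (P₃ - P) := by
    rw [← s3, mul_sub, mul_sub, e3 j, e2]
  rw [s1] at e1
  rw [s2] at e2
  have hM : (Nat.card G : ℚ) ≠ 0 := Nat.cast_ne_zero.2 Nat.card_pos.ne'
  obtain ⟨hq, heq⟩ := ratio_of_degrees hU hE hV hV1 hW h1 h2 hM e1 e2
  refine ⟨E, V, Y, hE, hE1, hY, hY1, hq, heq, ?_⟩
  have hY' : (Y : ℚ) ≠ 0 := by exact_mod_cast hY
  have hY1' : (1 : ℚ) + Y ≠ 0 := by exact_mod_cast (show (1 : ℤ) + Y ≠ 0 by omega)
  field_simp at e4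
  push_cast
  linear_combination e4

/-- The cleared forms, for `P = |C| (Q + 1) / (T² Q)` and `P₃ = 2 |C| / T²`. -/
theorem order_formula [IsSimpleGroup G] (hG : ¬ IsMulCommutative G) (ht : orderOf t = 2)
    (hinv : ∀ a : (centralizer ({t} : Set G)), orderOf a = 2 → IsConj t (a : G))
    (hJ : 3 ≤ Fintype.card J) (F : Funs t J Q P P₃) {T : ℕ}
    (hP : P * ((T : ℚ) ^ 2 * Q) = (Nat.card (centralizer ({t} : Set G)) : ℚ) * ((Q : ℚ) + 1))
    (hP₃ : P₃ * (T : ℚ) ^ 2 = 2 * (Nat.card (centralizer ({t} : Set G)) : ℚ)) :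
    ∃ E V Y : ℤ, E ≠ 0 ∧ E ≠ -1 ∧ Y ≠ 0 ∧ Y ≠ -1 ∧ E ^ 2 + E * (V + 1) = (Q ^ 2 - 1) * V ∧
      (Nat.card G : ℤ) * (T : ℤ) ^ 2 * Q * (E + Q + 1) ^ 2 =
        (Nat.card (centralizer ({t} : Set G)) : ℤ) ^ 3 * (Q + 1) * (E * (E + 1)) ∧
      (Nat.card G : ℤ) * (T : ℤ) ^ 2 * Q * (Y - Q + 1) ^ 2 =
        (Nat.card (centralizer ({t} : Set G)) : ℤ) ^ 3 * (Q - 1) * (Y * (Y + 1)) := by
  obtain ⟨E, V, Y, hE, hE1, hY, hY1, hq, heq, heq3⟩ := order_eq hG ht hinv hJ F
  refine ⟨E, V, Y, hE, hE1, hY, hY1, hq, Int.cast_injective (α := ℚ) ?_,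
    Int.cast_injective (α := ℚ) ?_⟩
  · push_cast at heq ⊢
    linear_combination ((T : ℚ) ^ 2 * Q) * heq +
      ((Nat.card (centralizer ({t} : Set G)) : ℚ) ^ 2 * ((E : ℚ) * (E + 1))) * hP
  · push_cast at heq3 ⊢
    linear_combination ((T : ℚ) ^ 2 * Q) * heq3 +
      ((Nat.card (centralizer ({t} : Set G)) : ℚ) ^ 2 * ((Y : ℚ) * (Y + 1)) * Q) * hP₃ -
      ((Nat.card (centralizer ({t} : Set G)) : ℚ) ^ 2 * ((Y : ℚ) * (Y + 1))) * hP

end Cfsg.Agent.H84.SD
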