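import Cfsg.Agent.H84.SD.Engine

/-!
# The index of the involution centraliser, nothing local assumed
-/

set_option autoImplicit false
set_option linter.style.haveILetI false
set_option linter.unusedSectionVars false

namespace Cfsg.Agent.H84.SD

open Subgroup

universe u w

variable {G : Type u} [Group G] [Fintype G] {t : G} [Fintype (centralizer ({t} : Set G))]
  {J : Type w} [Fintype J] {Q : ℤ} {P P₃ : ℚ}

/-- If `|C(t)| = |C(t, u)| Q (Q + 1)` then `|G : C(t)| (E + Q + 1)² = Q (Q + 1)³ E (E + 1)`. -/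
theorem index_formula [IsSimpleGroup G] (hG : ¬ IsMulCommutative G) (ht : orderOf t = 2)
    (hinv : ∀ a : centralizer ({t} : Set G), orderOf a = 2 → IsConj t (a : G))
    (hJ : 3 ≤ Fintype.card J) (F : Funs t J Q P P₃) {T : ℕ} (hT : T ≠ 0) (hQ : Q ≠ 0)
    (hCT : (Nat.card (centralizer ({t} : Set G)) : ℤ) = T * Q * (Q + 1))
    (hP : P * ((T : ℚ) ^ 2 * Q) =
      (Nat.card (centralizer ({t} : Set G)) : ℚ) * ((Q : ℚ) + 1))
    (hP₃ : P₃ * (T : ℚ) ^ 2 = 2 * (Nat.card (centralizer ({t} : Set G)) : ℚ)) :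
    ∃ E V Y : ℤ, E ≠ 0 ∧ E ≠ -1 ∧ Y ≠ 0 ∧ Y ≠ -1 ∧ E ^ 2 + E * (V + 1) = (Q ^ 2 - 1) * V ∧
      E - (Q ^ 2 - 1) ∣ Q ^ 2 * (Q ^ 2 - 1) ∧
      ((centralizer ({t} : Set G)).index : ℤ) * (E + Q + 1) ^ 2 =
        Q * (Q + 1) ^ 3 * (E * (E + 1)) ∧
      ((centralizer ({t} : Set G)).index : ℤ) * (Y - Q + 1) ^ 2 =
        Q * (Q + 1) ^ 2 * (Q - 1) * (Y * (Y + 1)) := by
  obtain ⟨E, V, Y, hE, hE1, hY, hY1, hV, heq, heq3⟩ := order_formula hG ht hinv hJ F hP hP₃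
  have hc : (Nat.card (centralizer ({t} : Set G)) : ℤ) ≠ 0 := by
    exact_mod_cast Nat.card_pos.ne'
  have h0 : (Nat.card (centralizer ({t} : Set G)) : ℤ) * ((T : ℤ) ^ 2 * Q) ≠ 0 :=
    mul_ne_zero hc (mul_ne_zero (pow_ne_zero _ (by exact_mod_cast hT)) hQ)
  rw [← index_mul_card (centralizer ({t} : Set G))] at heq heq3
  push_cast at heq heq3
  refine ⟨E, V, Y, hE, hE1, hY, hY1, hV, ⟨-(V + E + Q ^ 2), by linear_combination hV⟩, ?_, ?_⟩
  · apply mul_left_cancel₀ h0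
    rw [hCT] at heq ⊢
    linear_combination heq
  · apply mul_left_cancel₀ h0
    rw [hCT] at heq3 ⊢
    linear_combination heq3

/-- With a further hypothesis of regularity at `p` the degree is `Q (Q + 1)`. -/
theorem order_regular [IsSimpleGroup G] (hG : ¬ IsMulCommutative G) (ht : orderOf t = 2)
    (hinv : ∀ a : centralizer ({t} : Set G), orderOf a = 2 → IsConj t (a : G))
    (hJ : 3 ≤ Fintype.card J) (F : Funs t J Q P P₃) {T : ℕ} (hT : T ≠ 0)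
    (hP : P * ((T : ℚ) ^ 2 * Q) =
      (Nat.card (centralizer ({t} : Set G)) : ℚ) * ((Q : ℚ) + 1))
    (hP₃ : P₃ * (T : ℚ) ^ 2 = 2 * (Nat.card (centralizer ({t} : Set G)) : ℚ))
    {p n : ℕ} [Fact p.Prime] (hp : p ≠ 2) (hn : 1 ≤ n) (hQp : Q.natAbs = p ^ n) (hQ4 : Q % 4 = 3)
    (h2G : padicValNat 2 (Nat.card G) = padicValNat 2 (Q + 1).natAbs + 2)
    (h2C : padicValNat 2 (Nat.card (centralizer ({t} : Set G))) =
      padicValNat 2 (Q + 1).natAbs + 2)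
    (h2T : padicValNat 2 T = 2)
    (hreg : 3 * padicValNat p (Nat.card (centralizer ({t} : Set G))) ≤
      padicValNat p (Nat.card G) + 2 * padicValNat p T) :
    (Nat.card G : ℤ) * (T : ℤ) ^ 2 * (Q + 1) ^ 2 =
      (Nat.card (centralizer ({t} : Set G)) : ℤ) ^ 3 * (Q ^ 2 + Q + 1) := by
  obtain ⟨E, V, Y, hE, hE1, -, -, hV, heq, -⟩ := order_formula hG ht hinv hJ F hP hP₃
  exact (E_eq hp hn hQp hQ4 Nat.card_pos.ne' Nat.card_pos.ne' hT h2G h2C h2T hreg hE hE1 hV heq).2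

end Cfsg.Agent.H84.SD
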