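import Mathlib

/-!
# The arithmetic of Brauer's order formula, semidihedral case

`Q ≡ 3 (mod 4)` is the signed characteristic power and `E` the common character degree of the first
two rows.
-/

set_option autoImplicit false

namespace Cfsg.Agent.H84.SD

/-- The divisors of `Q² - 1` congruent to `1` modulo `Q`. -/
theorem divisor_cases {Q d : ℤ} (hQ : 3 ≤ |Q|) (hd : d ∣ Q ^ 2 - 1) (hmod : Q ∣ d - 1) :
    d = 1 ∨ d = Q + 1 ∨ d = 1 - Q ∨ d = 1 - Q ^ 2 := by
  obtain ⟨a, ha⟩ := hmod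
  obtain ⟨e, he⟩ := hd
  have hQ0 : Q ≠ 0 := by rintro rfl; norm_num at hQ
  have hb : Q ∣ e + 1 := ⟨Q - a * e, by linear_combination (-1 : ℤ) * he - e * ha⟩
  obtain ⟨b, hb⟩ := hb
  have key : b - a = Q * (1 - a * b) := by
    apply mul_left_cancel₀ hQ0
    linear_combination (-1 : ℤ) * he - e * ha + (-1 - Q * a) * hb
  rcases lt_trichotomy (a * b) 0 with hab | hab | hab
  · exfalso
    have h1 : |b - a| = |Q| * (1 - a * b) := by
      rw [key, abs_mul, abs_of_pos (show (0 : ℤ) < 1 - a * b by omega)]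
    have h2 : |b - a| ≤ 1 - a * b := by
      rcases mul_neg_iff.1 hab with ⟨ha', hb'⟩ | ⟨ha', hb'⟩
      · rw [abs_of_neg (by omega)]; nlinarith
      · rw [abs_of_pos (by omega)]; nlinarith
    nlinarith
  · rcases mul_eq_zero.1 hab with rfl | rfl
    · left; omega
    · right; right; right
      simp only [mul_zero, sub_zero, mul_one, zero_sub] at key
      obtain rfl : a = -Q := by omega
      linear_combination ha
  · by_cases h1 : a * b = 1
    · rcases Int.eq_one_or_neg_one_of_mul_eq_one h1 with rfl | rfl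
      · right; left; omega
      · right; right; left; omega
    · exfalso
      have h3 : |b - a| = |Q| * (a * b - 1) := by
        rw [key, abs_mul, abs_of_neg (show 1 - a * b < 0 by omega)]; ring
      have h2 : |b - a| ≤ a * b - 1 := by
        rcases mul_pos_iff.1 hab with ⟨ha', hb'⟩ | ⟨ha', hb'⟩
        · rw [abs_le]; constructor <;> nlinarith
        · rw [abs_le]; constructor <;> nlinarith
      have h4 : 2 * (a * b - 1) ≤ |b - a| - (a * b - 1) := by rw [h3]; nlinarith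
      omega

theorem ratio_of_degrees {Q E U V W : ℤ} (hU : U ≠ 0) (hE : E ≠ 0) (hV : V ≠ 0) (hV1 : V ≠ 1)
    (hW : W ≠ 0) (h1 : 1 + U + E = 0) (h2 : E + V + W = 0) {M R : ℚ} (hM : M ≠ 0)
    (e1 : M * (1 + (Q : ℚ) ^ 2 / U + ((Q : ℚ) + 1) ^ 2 / E) = R)
    (e2 : M * (((Q : ℚ) + 1) ^ 2 / E + 1 / V + (Q : ℚ) ^ 2 / W) = R) :
    E ^ 2 + E * (V + 1) = (Q ^ 2 - 1) * V ∧
      M * ((E + Q + 1 : ℤ) : ℚ) ^ 2 = R * ((E : ℚ) * (E + 1)) := by
  have hU' : (U : ℚ) ≠ 0 := by exact_mod_cast hU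
  have hE' : (E : ℚ) ≠ 0 := by exact_mod_cast hE
  have hV' : (V : ℚ) ≠ 0 := by exact_mod_cast hV
  have hW' : (W : ℚ) ≠ 0 := by exact_mod_cast hW
  have e := mul_left_cancel₀ hM (e1.trans e2.symm)
  field_simp at e
  field_simp at e1
  have eu : U = -1 - E := by omega
  have ew : W = -E - V := by omega
  subst eu ew
  push_cast at e e1 ⊢
  refine ⟨?_, ?_⟩
  · have hc : (E : ℚ) * ((V - 1) * (E ^ 2 + E * (V + 1) - ((Q : ℚ) ^ 2 - 1) * V)) = 0 := by
      linear_combination e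
    have hc' : (V - 1) * (E ^ 2 + E * (V + 1) - (Q ^ 2 - 1) * V) = 0 := by
      exact_mod_cast (mul_eq_zero.1 hc).resolve_left hE'
    exact sub_eq_zero.1 ((mul_eq_zero.1 hc').resolve_left (sub_ne_zero.2 hV1))
  · linear_combination (-1 : ℚ) * e1

/-- The two-part of the order equation. -/
theorem two_part {Q E : ℤ} {a m : ℕ} (hQ : Q + 1 = 2 ^ a * (2 * (m : ℤ) + 1) ∨
      Q + 1 = -(2 ^ a * (2 * (m : ℤ) + 1))) (ha : 2 ≤ a) {M C T : ℕ} (hM : M ≠ 0) (hC : C ≠ 0)
    (hT : T ≠ 0) (h2M : padicValNat 2 M = a + 2) (h2C : padicValNat 2 C = a + 2)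
    (h2T : padicValNat 2 T = 2) (hQo : Odd Q) (hE0 : E ≠ 0) (hE1 : E ≠ -1)
    (heq : (M : ℤ) * (T : ℤ) ^ 2 * Q * (E + Q + 1) ^ 2 = (C : ℤ) ^ 3 * (Q + 1) * (E * (E + 1))) :
    padicValInt 2 E = a ∧ padicValInt 2 (E + Q + 1) = 2 * a := by
  haveI : Fact (Nat.Prime 2) := ⟨Nat.prime_two⟩
  have hQ1 : padicValInt 2 (Q + 1) = a := by
    have hodd : padicValNat 2 (2 * m + 1) = 0 := padicValNat.eq_zero_of_not_dvd (by omega)
    have habs : (Q + 1).natAbs = 2 ^ a * (2 * m + 1) := by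
      rcases hQ with h | h <;> rw [h] <;> simp [Int.natAbs_mul, Int.natAbs_pow] <;> norm_cast
    rw [padicValInt, habs, padicValNat.mul (by positivity) (by omega), padicValNat.prime_pow,
      hodd, Nat.add_zero]
  have hQ0 : Q ≠ 0 := by rintro rfl; exact (Int.not_odd_zero hQo)
  have hQ10 : Q + 1 ≠ 0 := fun h => by rw [h] at hQ1; simp at hQ1; omega
  have hE10 : E + 1 ≠ 0 := by omega
  have hCz : (C : ℤ) ≠ 0 := by exact_mod_cast hC
  have hMz : (M : ℤ) ≠ 0 := by exact_mod_cast hM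
  have hTz : (T : ℤ) ≠ 0 := by exact_mod_cast hT
  have hS : E + Q + 1 ≠ 0 := by
    intro h
    rw [h] at heq
    simp at heq
    tauto
  have h := congrArg (padicValInt 2) heq
  rw [padicValInt.mul (mul_ne_zero (mul_ne_zero hMz (pow_ne_zero _ hTz)) hQ0) (pow_ne_zero _ hS),
    padicValInt.mul (mul_ne_zero hMz (pow_ne_zero _ hTz)) hQ0, padicValInt.mul hMz (pow_ne_zero _ hTz),
    padicValInt.mul (mul_ne_zero (pow_ne_zero _ hCz) hQ10) (mul_ne_zero hE0 hE10),
    padicValInt.mul (pow_ne_zero _ hCz) hQ10, padicValInt.mul hE0 hE10] at h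
  have hQv : padicValInt 2 Q = 0 := padicValInt.eq_zero_of_not_dvd
    (by rw [Nat.cast_ofNat, ← even_iff_two_dvd]; exact Int.not_even_iff_odd.2 hQo)
  have hpow : ∀ (x : ℤ) (k : ℕ), x ≠ 0 → padicValInt 2 (x ^ k) = k * padicValInt 2 x :=
    fun x k hx => by rw [padicValInt, Int.natAbs_pow, padicValNat.pow, padicValInt]
  rw [hpow _ 2 hTz, hpow _ 2 hS, hpow _ 3 hCz, padicValInt.of_nat, padicValInt.of_nat,
    padicValInt.of_nat, h2M, h2C, h2T, hQv, hQ1] at h
  set e := padicValInt 2 E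
  set f := padicValInt 2 (E + 1)
  set w := padicValInt 2 (E + Q + 1)
  -- `2w = 3a + e + f`
  have hd : ∀ (x : ℤ) (k : ℕ), x ≠ 0 → ((2 : ℤ) ^ k ∣ x ↔ k ≤ padicValInt 2 x) := fun x k hx => by
    rw [show (2 : ℤ) = ((2 : ℕ) : ℤ) from rfl, padicValInt_dvd_iff]
    simp [hx]
  have he1 : 1 ≤ e := by
    by_contra he
    have hw : (2 : ℤ) ^ 1 ∣ E + Q + 1 := (hd _ 1 hS).2 (by omega)
    have hne : ¬ (2 : ℤ) ^ 1 ∣ E := fun hx => he ((hd _ 1 hE0).1 hx)
    have hq : (2 : ℤ) ^ 1 ∣ Q + 1 := (hd _ 1 hQ10).2 (by omega)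
    exact hne (by
      have := dvd_sub hw hq
      rwa [show E + Q + 1 - (Q + 1) = E by ring] at this)
  have hf : f = 0 := by
    by_contra hf
    have h1 := (hd _ 1 hE0).2 he1
    have h2 := (hd _ 1 hE10).2 (by omega : 1 ≤ f)
    have := dvd_sub h2 h1
    norm_num at this
  have hsum : E + Q + 1 = E + (Q + 1) := by ring
  rcases lt_trichotomy e a with hlt | heq' | hgt
  · exfalso
    have hw : (2 : ℤ) ^ (e + 1) ∣ E + Q + 1 := (hd _ _ hS).2 (by omega)
    have hq : (2 : ℤ) ^ (e + 1) ∣ Q + 1 := (hd _ _ hQ10).2 (by omega)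
    have h3 : (2 : ℤ) ^ (e + 1) ∣ E := by
      have := dvd_sub hw hq
      rwa [hsum, add_sub_cancel_right] at this
    have := (hd _ _ hE0).1 h3
    omega
  · exact ⟨heq', by omega⟩
  · exfalso
    have hw : (2 : ℤ) ^ (a + 1) ∣ E + Q + 1 := (hd _ _ hS).2 (by omega)
    have hq : (2 : ℤ) ^ (a + 1) ∣ E := (hd _ _ hE0).2 (by omega)
    have h3 : (2 : ℤ) ^ (a + 1) ∣ Q + 1 := by
      have := dvd_sub hw hq
      rwa [hsum, add_sub_cancel_left] at this
    have := (hd _ _ hQ10).1 h3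
    omega

/-- Regularity leaves only the linear degree. -/
theorem E_eq {p n : ℕ} [hp : Fact p.Prime] (hp2 : p ≠ 2) (hn : 1 ≤ n) {Q E V : ℤ}
    (hQp : Q.natAbs = p ^ n) (hQ4 : Q % 4 = 3) {M C T : ℕ} (hM : M ≠ 0) (hC : C ≠ 0) (hT : T ≠ 0)
    (h2M : padicValNat 2 M = padicValNat 2 (Q + 1).natAbs + 2)
    (h2C : padicValNat 2 C = padicValNat 2 (Q + 1).natAbs + 2) (h2T : padicValNat 2 T = 2)
    (hreg : 3 * padicValNat p C ≤ padicValNat p M + 2 * padicValNat p T)
    (hE0 : E ≠ 0) (hE1 : E ≠ -1) (hV : E ^ 2 + E * (V + 1) = (Q ^ 2 - 1) * V)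
    (heq : (M : ℤ) * (T : ℤ) ^ 2 * Q * (E + Q + 1) ^ 2 = (C : ℤ) ^ 3 * (Q + 1) * (E * (E + 1))) :
    E = Q * (Q + 1) ∧ (M : ℤ) * (T : ℤ) ^ 2 * (Q + 1) ^ 2 = (C : ℤ) ^ 3 * (Q ^ 2 + Q + 1) := by
  have hQodd : Odd Q := Int.odd_iff.2 (by omega)
  have hQ0 : Q ≠ 0 := by omega
  have hQ10 : Q + 1 ≠ 0 := fun h => by
    have : p ^ n = 1 := by rw [← hQp, show Q = -1 by omega]; rfl
    exact absurd this (Nat.one_lt_pow (by omega) hp.out.one_lt).ne'
  obtain ⟨a, o, ho, hao⟩ := Nat.exists_eq_two_pow_mul_odd (n := (Q + 1).natAbs) (by simpa using hQ10)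
  obtain ⟨m, rfl⟩ := ho
  have ha : padicValNat 2 (Q + 1).natAbs = a := by
    rw [hao, padicValNat.mul (by positivity) (by omega), padicValNat.prime_pow,
      padicValNat.eq_zero_of_not_dvd (by omega : ¬ 2 ∣ 2 * m + 1), Nat.add_zero]
  have ha2 : 2 ≤ a := by
    by_contra hlt
    have h4 : 4 ∣ (Q + 1).natAbs := Int.natCast_dvd.1 (show ((4 : ℕ) : ℤ) ∣ Q + 1 by omega)
    rw [hao] at h4
    interval_cases a <;> omega
  have hQcase : Q + 1 = 2 ^ a * (2 * (m : ℤ) + 1) ∨ Q + 1 = -(2 ^ a * (2 * (m : ℤ) + 1)) := by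
    have := Int.natAbs_eq (Q + 1)
    rw [hao] at this
    push_cast at this
    exact this
  obtain ⟨hE2, hS2⟩ := two_part hQcase ha2 hM hC hT (ha ▸ h2M) (ha ▸ h2C) h2T hQodd hE0 hE1 heq
  have hQ3 : 3 ≤ |Q| := by
    have h3 : 3 ≤ p := lt_of_le_of_ne hp.out.two_le (Ne.symm hp2)
    have := Nat.le_self_pow (show n ≠ 0 by omega) p
    rw [Int.abs_eq_natAbs, hQp]; omega
  have hpQ : (p : ℤ) ^ n ∣ Q ∧ Q ∣ (p : ℤ) ^ n := by
    rw [show (p : ℤ) ^ n = ((Q.natAbs : ℕ) : ℤ) by rw [hQp]; push_cast; rfl]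
    exact ⟨Int.natAbs_dvd.2 dvd_rfl, Int.dvd_natAbs.2 dvd_rfl⟩
  have hQv : padicValInt p Q = n := by rw [padicValInt, hQp, padicValNat.prime_pow]
  have hcop : IsCoprime Q (Q + 1) := ⟨-1, 1, by ring⟩
  have hQ1v : padicValInt p (Q + 1) = 0 := padicValInt.eq_zero_of_not_dvd fun hd => by
    have h1 : (p : ℤ) ∣ Q := (dvd_pow_self _ (by omega)).trans hpQ.1
    have h3 := dvd_sub hd h1
    rw [show Q + 1 - Q = 1 by ring] at h3
    exact hp.out.one_lt.ne' (Nat.dvd_one.1 (by exact_mod_cast h3))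
  have hS : E + Q + 1 ≠ 0 := fun h => by rw [h] at hS2; simp at hS2; omega
  have hE10 : E + 1 ≠ 0 := by omega
  have hCz : (C : ℤ) ≠ 0 := by exact_mod_cast hC
  have hMz : (M : ℤ) ≠ 0 := by exact_mod_cast hM
  have hTz : (T : ℤ) ≠ 0 := by exact_mod_cast hT
  have hpow : ∀ (x : ℤ) (k : ℕ), x ≠ 0 → padicValInt p (x ^ k) = k * padicValInt p x :=
    fun x k hx => by rw [padicValInt, Int.natAbs_pow, padicValNat.pow, padicValInt]
  have hv := congrArg (padicValInt p) heq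
  rw [padicValInt.mul (mul_ne_zero (mul_ne_zero hMz (pow_ne_zero _ hTz)) hQ0) (pow_ne_zero _ hS),
    padicValInt.mul (mul_ne_zero hMz (pow_ne_zero _ hTz)) hQ0, padicValInt.mul hMz (pow_ne_zero _ hTz),
    padicValInt.mul (mul_ne_zero (pow_ne_zero _ hCz) hQ10) (mul_ne_zero hE0 hE10),
    padicValInt.mul (pow_ne_zero _ hCz) hQ10, padicValInt.mul hE0 hE10, hpow _ 2 hTz, hpow _ 2 hS,
    hpow _ 3 hCz, padicValInt.of_nat, padicValInt.of_nat, padicValInt.of_nat, hQv, hQ1v] at hv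
  have hdvd : ∀ (x : ℤ) (k : ℕ), x ≠ 0 → ((p : ℤ) ^ k ∣ x ↔ k ≤ padicValInt p x) :=
    fun x k hx => by rw [padicValInt_dvd_iff]; simp [hx]
  have hdiv : (E - (Q ^ 2 - 1)) ∣ Q ^ 2 * (Q ^ 2 - 1) :=
    ⟨-(V + E + Q ^ 2), by linear_combination hV⟩
  have hd0 : E - (Q ^ 2 - 1) ≠ 0 := fun h => by
    rw [h, zero_dvd_iff] at hdiv
    rcases mul_eq_zero.1 hdiv with h1 | h1
    · exact hQ0 (eq_zero_of_pow_eq_zero h1)
    · have : Q ^ 2 - 1 = (|Q| - 1) * (|Q| + 1) := by
        rw [show (|Q| - 1) * (|Q| + 1) = |Q| ^ 2 - 1 by ring, sq_abs]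
      rw [this] at h1
      rcases mul_eq_zero.1 h1 with h2 | h2 <;> omega
  have h2Eeven : (2 : ℤ) ^ a ∣ E ∧ ¬ (2 : ℤ) ^ (a + 1) ∣ E := by
    rw [show (2 : ℤ) = ((2 : ℕ) : ℤ) from rfl, padicValInt_dvd_iff, padicValInt_dvd_iff, hE2]
    refine ⟨Or.inr le_rfl, fun h => h.elim hE0 (fun h' => by omega)⟩
  have hEQ : Q ∣ E := by
    refine hpQ.2.trans ((hdvd _ n hE0).2 ?_)
    by_contra hlt
    push Not at hlt
    -- then `q ∣ E + 1` and the divisor condition leaves degrees with the wrong two-part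
    have hE1v : n ≤ padicValInt p (E + 1) := by
      by_contra hlt'
      push Not at hlt'
      have h3 : padicValInt p E + padicValInt p (E + 1) < n + 2 * padicValInt p (E + Q + 1) := by
        rcases Nat.eq_zero_or_pos (padicValInt p E) with h0 | hpos
        · rw [h0, Nat.zero_add]
          by_contra hge
          push Not at hge
          omega
        · have h1 := (hdvd _ 1 hE0).2 hpos
          have h0 : padicValInt p (E + 1) = 0 := padicValInt.eq_zero_of_not_dvd fun h => by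
            rw [pow_one] at h1
            have h4 := dvd_sub h h1
            rw [show E + 1 - E = 1 by ring] at h4
            exact hp.out.one_lt.ne' (Nat.dvd_one.1 (by exact_mod_cast h4))
          omega
      omega
    have hSv : n ≤ padicValInt p (E + Q + 1) := (hdvd _ n hS).1 (by
      have := dvd_add ((hdvd _ n hE10).2 hE1v) hpQ.1
      rwa [show E + 1 + Q = E + Q + 1 by ring] at this)
    have h3n : 3 * n ≤ padicValInt p (E + 1) := by
      have h0 : padicValInt p E = 0 := padicValInt.eq_zero_of_not_dvd fun h => by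
        have h1 := (hdvd _ 1 hE10).2 (by omega : 1 ≤ padicValInt p (E + 1))
        rw [pow_one] at h1
        have h4 := dvd_sub h1 h
        rw [show E + 1 - E = 1 by ring] at h4
        exact hp.out.one_lt.ne' (Nat.dvd_one.1 (by exact_mod_cast h4))
      omega
    have hq3 : Q ^ 3 ∣ E + 1 := by
      refine (pow_dvd_pow_of_dvd hpQ.2 3).trans ?_
      rw [← pow_mul]
      exact (hdvd _ _ hE10).2 (by omega)
    obtain ⟨k, hk⟩ := hq3
    have hd' : Q * k - 1 ∣ Q ^ 2 - 1 := by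
      rw [show E - (Q ^ 2 - 1) = Q ^ 2 * (Q * k - 1) by linear_combination hk] at hdiv
      exact (mul_dvd_mul_iff_left (pow_ne_zero 2 hQ0)).1 hdiv
    have hneg : 1 - Q * k ∣ Q ^ 2 - 1 := by
      rw [← neg_dvd, neg_sub]; exact hd'
    rcases divisor_cases hQ3 hneg ⟨-k, by ring⟩ with h | h | h | h
    · have hk0 : Q * k = 0 := by omega
      obtain rfl := (mul_eq_zero.1 hk0).resolve_left hQ0
      omega
    · have : k = -1 := mul_left_cancel₀ hQ0 (by linear_combination (-1 : ℤ) * h)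
      subst this
      -- `E = -(Q³ + 1)`
      have h4 : (2 : ℤ) ^ (a + a) ∣ E + Q + 1 := by
        rw [show (2 : ℤ) = ((2 : ℕ) : ℤ) from rfl, padicValInt_dvd_iff, hS2]
        exact Or.inr (by omega)
      rw [show E + Q + 1 = (Q + 1) * (-(Q * (Q - 1))) by linear_combination hk, pow_add] at h4
      have h5 : (2 : ℤ) ^ a ∣ -(Q * (Q - 1)) := by
        rcases hQcase with hc | hc <;> rw [hc] at h4
        · rw [mul_assoc, mul_dvd_mul_iff_left (pow_ne_zero a (by norm_num))] at h4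
          exact ((Int.isCoprime_iff_gcd_eq_one.2 (by
            rw [Int.gcd, Int.natAbs_pow]
            exact Nat.Coprime.pow_left a (Nat.coprime_two_left.2 ⟨m, by omega⟩))).dvd_of_dvd_mul_left
            h4)
        · rw [neg_mul, dvd_neg, mul_assoc, mul_dvd_mul_iff_left (pow_ne_zero a (by norm_num))] at h4
          exact ((Int.isCoprime_iff_gcd_eq_one.2 (by
            rw [Int.gcd, Int.natAbs_pow]
            exact Nat.Coprime.pow_left a (Nat.coprime_two_left.2 ⟨m, by omega⟩))).dvd_of_dvd_mul_left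
            h4)
      have h6 : (4 : ℤ) ∣ -(Q * (Q - 1)) := (show (4 : ℤ) ∣ 2 ^ a from
        (show (4 : ℤ) = 2 ^ 2 by norm_num) ▸ pow_dvd_pow 2 ha2).trans h5
      rw [dvd_neg] at h6
      have h7 := Int.emod_eq_zero_of_dvd h6
      rw [Int.mul_emod, Int.sub_emod, hQ4] at h7
      norm_num at h7
    · have : k = 1 := mul_left_cancel₀ hQ0 (by linear_combination (-1 : ℤ) * h)
      subst this
      -- `E = Q³ - 1`
      have h4 : (4 : ℤ) ∣ E := (show (4 : ℤ) ∣ 2 ^ a from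
        (show (4 : ℤ) = 2 ^ 2 by norm_num) ▸ pow_dvd_pow 2 ha2).trans h2Eeven.1
      rw [show E = Q * Q * Q - 1 by linear_combination hk] at h4
      have h7 := Int.emod_eq_zero_of_dvd h4
      rw [Int.sub_emod, Int.mul_emod, Int.mul_emod Q Q, hQ4] at h7
      norm_num at h7
    · have hkQ : k = Q := mul_left_cancel₀ hQ0 (by linear_combination (-1 : ℤ) * h)
      subst k
      -- `E = Q⁴ - 1`
      refine h2Eeven.2 ?_
      have hEv : E = (Q + 1) * ((Q - 1) * (Q ^ 2 + 1)) := by linear_combination hk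
      rw [hEv, pow_succ]
      refine mul_dvd_mul ?_ (Dvd.dvd.mul_right (show (2 : ℤ) ∣ Q - 1 by omega) _)
      rcases hQcase with hc | hc <;> rw [hc]
      · exact dvd_mul_right _ _
      · exact (dvd_mul_right _ _).neg_right
  obtain ⟨k, hk⟩ := hEQ
  have hd' : E - (Q ^ 2 - 1) ∣ Q ^ 2 - 1 :=
    (IsCoprime.pow_right (show IsCoprime (E - (Q ^ 2 - 1)) Q from ⟨1, Q - k, by
      linear_combination hk⟩)).dvd_of_dvd_mul_left hdiv
  have hE : E = Q * (Q + 1) := by
    rcases divisor_cases hQ3 hd' ⟨k - Q, by linear_combination hk⟩ with h | h | h | h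
    · exfalso
      have h1 : (2 : ℤ) ∣ E := (dvd_pow_self 2 (by omega)).trans h2Eeven.1
      rw [show E = Q * Q by linear_combination h] at h1
      exact Int.not_even_iff_odd.2 (hQodd.mul hQodd) (even_iff_two_dvd.2 h1)
    · linear_combination h
    · exfalso
      have h4 : (4 : ℤ) ∣ E := (show (4 : ℤ) ∣ 2 ^ a from
        (show (4 : ℤ) = 2 ^ 2 by norm_num) ▸ pow_dvd_pow 2 ha2).trans h2Eeven.1
      rw [show E = Q * (Q - 1) by linear_combination h] at h4
      have h7 := Int.emod_eq_zero_of_dvd h4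
      rw [Int.mul_emod, Int.sub_emod, hQ4] at h7
      norm_num at h7
    · exact absurd (show E = 0 by linear_combination h) hE0
  refine ⟨hE, ?_⟩
  subst hE
  apply mul_left_cancel₀ (mul_ne_zero hQ0 hQ10 : Q * (Q + 1) ≠ 0)
  apply mul_left_cancel₀ hQ10
  linear_combination heq

end Cfsg.Agent.H84.SD
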